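/-
Parabolic subgroups of general linear groups relative to a block splitting, their unipotent radicals, and the
character projector attached to a subgroup.
-/
import Cfsg.Agent.Lib.CharTheory
import Mathlib.LinearAlgebra.Matrix.GeneralLinearGroup.Defs
import Mathlib.LinearAlgebra.Matrix.Permutation

set_option autoImplicit false

namespace CfsgLib.GLCusp

open Cfsg CfsgLib.CharTheory Matrix
open scoped BigOperators ComplexConjugate

section Group

universe u

variable {G : Type u} [Group G] [Fintype G]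

/-- A subgroup whose sum of character values vanishes kills every coset sum. -/
theorem sum_shift_eq_zero {χ : G → ℂ} (hχ : IsCharacter G χ) (K : Subgroup G) [Fintype K]
    (h0 : ∑ k : K, χ k = 0) (g : G) : ∑ k : K, χ (g * k) = 0 := by
  classical
  obtain ⟨d, ρ, rfl⟩ := hχ
  set r : Representation ℂ K (Fin d → ℂ) := ρ.comp K.subtype with hr
  haveI : Invertible (Fintype.card K : ℂ) := invertibleOfNonzero (Nat.cast_ne_zero.mpr Fintype.card_ne_zero)
  have htr : (r.averageMap) = 0 := by
    have hp := r.isProj_averageMap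
    have h1 := hp.trace
    have h2 : LinearMap.trace ℂ _ r.averageMap = 0 := by
      rw [Representation.averageMap, GroupAlgebra.average, map_smul, map_sum, map_smul, map_sum]
      have : ∀ k : K, LinearMap.trace ℂ _ (r.asAlgebraHom (MonoidAlgebra.of ℂ K k)) = ρ.character k :=
        fun k => by rw [Representation.asAlgebraHom_of]; rfl
      rw [Finset.sum_congr rfl fun k _ => this k, h0, smul_zero]
    rw [h2] at h1
    have h3 : Module.finrank ℂ r.invariants = 0 := by exact_mod_cast h1.symm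
    refine LinearMap.ext fun v => ?_
    have h4 := hp.map_mem v
    rw [Submodule.finrank_eq_zero.mp h3, Submodule.mem_bot] at h4
    exact h4
  have hz : ∑ k : K, ρ (k : G) = 0 := by
    have := htr
    rw [Representation.averageMap, GroupAlgebra.average, map_smul, map_sum] at this
    simp only [Representation.asAlgebraHom_of] at this
    exact (smul_eq_zero.mp this).resolve_left (Invertible.ne_zero _)
  calc ∑ k : K, ρ.character (g * k) = LinearMap.trace ℂ _ (ρ g * ∑ k : K, ρ (k : G)) := by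
        rw [Finset.mul_sum, map_sum]
        exact Finset.sum_congr rfl fun k _ => by rw [Representation.character, map_mul]
    _ = 0 := by rw [hz, mul_zero, map_zero]

/-- Subtracting an irreducible constituent leaves a character. -/
theorem isCharacter_sub_of_inner {χ f : G → ℂ} (hχ : IsCharacter G χ) (hf : IsIrrCharacter G f)
    (h : classInner χ f ≠ 0) : IsCharacter G (χ - f) := by
  refine isCharacter_iff_coeff_nat.mpr
    ⟨isClassFunction_sub (isClassFunction_char hχ) (isClassFunction_irr hf), fun ψ hψ => ?_⟩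
  obtain ⟨m, hm⟩ := classInner_char_nat hχ (isCharacter_of_irr hψ)
  rw [classInner_sub_left, hm]
  by_cases he : f = ψ
  · subst he
    have hm0 : m ≠ 0 := by rintro rfl; exact h (by rw [hm, Nat.cast_zero])
    exact ⟨m - 1, by rw [classInner_irr_self hf, Nat.cast_sub (by omega), Nat.cast_one]⟩
  · exact ⟨m, by rw [classInner_irr_ne hf hψ he, sub_zero]⟩

theorem exists_constituent {χ : G → ℂ} (hχ : IsClassFunction G χ) (h : χ ≠ 0) :
    ∃ f : G → ℂ, IsIrrCharacter G f ∧ classInner χ f ≠ 0 := by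
  by_contra hn
  push Not at hn
  exact h (eq_zero_of_orthogonal hχ fun f hf => hn f hf)

/-- A character containing a constituent that meets a character of a subgroup meets it too. -/
theorem inner_res_ne_zero {H : Type*} [Group H] [Fintype H] (φ : H →* G) {χ f : G → ℂ} (hχ : IsCharacter G χ)
    (hf : IsIrrCharacter G f) (h : classInner χ f ≠ 0) {τ : H → ℂ} (hτ : IsCharacter H τ)
    (hfτ : classInner (fun x => f (φ x)) τ ≠ 0) : classInner (fun x => χ (φ x)) τ ≠ 0 := by
  have e : (fun x => χ (φ x)) = (fun x => (χ - f) (φ x)) + fun x => f (φ x) := by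
    funext x; simp
  obtain ⟨a, ha⟩ := classInner_char_nat (isCharacter_comp (isCharacter_sub_of_inner hχ hf h) φ) hτ
  obtain ⟨b, hb⟩ := classInner_char_nat (isCharacter_comp (isCharacter_of_irr hf) φ) hτ
  rw [e, classInner_add_left, ha, hb]
  have hb0 : b ≠ 0 := by rintro rfl; exact hfτ (by rw [hb, Nat.cast_zero])
  exact_mod_cast (show a + b ≠ 0 by omega)

theorem extendByZero_conj (H : Subgroup G) {f : H → ℂ} (hf : IsClassFunction H f) {p : G} (hp : p ∈ H) (x : G) :
    extendByZero H f (p * x * p⁻¹) = extendByZero H f x := by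
  by_cases hx : x ∈ H
  · rw [extendByZero_of_mem H f hx, extendByZero_of_mem H f (H.mul_mem (H.mul_mem hp hx) (H.inv_mem hp))]
    exact hf ⟨x, hx⟩ ⟨p, hp⟩
  · rw [extendByZero_of_not_mem H f hx, extendByZero_of_not_mem H f fun h => hx (by
      have := H.mul_mem (H.mul_mem (H.inv_mem hp) h) hp
      simpa [mul_assoc] using this)]

theorem sum_extendByZero (H : Subgroup G) [Fintype H] (f : H → ℂ) (c : G → ℂ) :
    ∑ x : G, extendByZero H f x * c x = ∑ x : H, f x * c x := by
  classical
  rw [← Finset.sum_filter_add_sum_filter_not Finset.univ (· ∈ H),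
    Finset.sum_eq_zero (s := Finset.univ.filter fun y => ¬ y ∈ H) (fun y hy => by
      rw [extendByZero_of_not_mem _ _ (Finset.mem_filter.mp hy).2, zero_mul]), add_zero,
    Finset.sum_subtype (p := (· ∈ H)) _ (fun y => by simp)]
  exact Finset.sum_congr rfl fun y _ => by rw [extendByZero_coe]

/-- The twisted intersection sum. -/
noncomputable def J {H K : Subgroup G} (f : H → ℂ) (h : K → ℂ) (g : G) : ℂ :=
  ∑ x : G, extendByZero H f x * conj (extendByZero K h (g⁻¹ * x * g))

theorem inner_ind_ind (H K : Subgroup G) [Fintype H] (f : H → ℂ) (h : K → ℂ) :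
    classInner (indFun H f) (indFun K h) =
      (Nat.card H : ℂ)⁻¹ * (Nat.card K : ℂ)⁻¹ * ∑ g : G, J f h g := by
  have key : ∑ g : G, J f h g =
      ∑ x : H, f x * ∑ g : G, conj (extendByZero K h (g⁻¹ * x * g)) := by
    rw [← sum_extendByZero H f fun x => ∑ g : G, conj (extendByZero K h (g⁻¹ * x * g))]
    simp only [J, Finset.mul_sum]
    exact Finset.sum_comm
  rw [frobenius_reciprocity H f (indFun_isClassFunction K h), classInner, key]
  simp only [indFun, map_mul, map_sum, map_inv₀, Complex.conj_natCast]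
  rw [mul_assoc]
  conv_rhs => arg 2; rw [Finset.mul_sum]
  exact congrArg _ (Finset.sum_congr rfl fun x _ => by ring)

theorem J_mul_left {H K : Subgroup G} {f : H → ℂ} (hf : IsClassFunction H f) (h : K → ℂ) {p : G} (hp : p ∈ H)
    (g : G) : J f h (p * g) = J f h g := by
  refine Fintype.sum_equiv (MulAut.conj p⁻¹).toEquiv _ _ fun x => ?_
  show _ = extendByZero H f (p⁻¹ * x * p⁻¹⁻¹) * conj (extendByZero K h (g⁻¹ * (p⁻¹ * x * p⁻¹⁻¹) * g))
  rw [extendByZero_conj H hf (H.inv_mem hp), inv_inv, _root_.mul_inv_rev]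
  simp [mul_assoc]

theorem J_mul_right {H K : Subgroup G} (f : H → ℂ) {h : K → ℂ} (hh : IsClassFunction K h) {q : G} (hq : q ∈ K)
    (g : G) : J f h (g * q) = J f h g := by
  refine Finset.sum_congr rfl fun x _ => ?_
  rw [show (g * q)⁻¹ * x * (g * q) = q⁻¹ * (g⁻¹ * x * g) * q⁻¹⁻¹ by group,
    extendByZero_conj K hh (K.inv_mem hq)]

end Group

variable {F : Type*} [Field F] [Fintype F] [DecidableEq F]
variable {ι κ μ : Type*} [Fintype ι] [DecidableEq ι] [Fintype κ] [DecidableEq κ] [Fintype μ] [DecidableEq μ]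

/-- The radical attached to a set `s` of coordinates: `1 + N` with `N` supported on `s × sᶜ`. -/
def U (F : Type*) [Field F] [Fintype F] [DecidableEq F] (s : ι → Prop) : Subgroup (GL ι F) where
  carrier := {g | ∀ i j, ¬ (s i ∧ ¬ s j) → g.1 i j = (1 : Matrix ι ι F) i j}
  one_mem' := fun _ _ _ => rfl
  mul_mem' := by
    intro g h hg hh i j hij
    show (g.1 * h.1) i j = _
    have e : g.1 * h.1 = g.1 + h.1 - 1 := by
      have : (g.1 - 1) * (h.1 - 1) = 0 := by
        ext a b
        refine Finset.sum_eq_zero fun c _ => ?_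
        by_cases hc : s c
        · simp [Matrix.sub_apply, hg a c (fun h => h.2 hc)]
        · simp [Matrix.sub_apply, hh c b (fun h => hc h.1)]
      rw [sub_mul, mul_sub, mul_one, one_mul] at this
      linear_combination (norm := abel) this
    rw [e, Matrix.sub_apply, Matrix.add_apply, hg i j hij, hh i j hij, add_sub_cancel_right]
  inv_mem' := by
    intro g hg i j hij
    have e : (g⁻¹).1 = 2 - g.1 := by
      refine Units.inv_eq_of_mul_eq_one_right ?_
      have : (g.1 - 1) * (g.1 - 1) = 0 := by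
        ext a b
        refine Finset.sum_eq_zero fun c _ => ?_
        by_cases hc : s c
        · simp [Matrix.sub_apply, hg a c (fun h => h.2 hc)]
        · simp [Matrix.sub_apply, hg c b (fun h => hc h.1)]
      rw [sub_mul, mul_sub, mul_one, one_mul] at this
      rw [mul_sub, mul_two]
      linear_combination (norm := abel) -this
    rw [e, ← one_add_one_eq_two, Matrix.sub_apply, Matrix.add_apply, hg i j hij, add_sub_cancel_right]

/-- Cuspidality: every proper radical has vanishing character sum. -/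
def Cusp (χ : GL ι F → ℂ) : Prop :=
  ∀ s : ι → Prop, (∃ i, s i) → (∃ i, ¬ s i) →
    ∀ [Fintype (U F s)], ∑ u : U F s, χ u = 0

/-- The parabolic subgroup attached to a splitting `e`. -/
def P (e : κ ⊕ μ ≃ ι) : Subgroup (GL ι F) where
  carrier := {g | ∀ j i, g.1 (e (.inr j)) (e (.inl i)) = 0}
  one_mem' := fun j i => Matrix.one_apply_ne (fun h => Sum.inr_ne_inl (e.injective h))
  mul_mem' := by
    intro g h hg hh j i
    show (g.1 * h.1) _ _ = 0
    rw [Matrix.mul_apply, ← Equiv.sum_comp e, Fintype.sum_sum_type]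
    simp [hg j, fun z => hh z i]
  inv_mem' := by
    intro g hg
    have hS : ∀ k : ℕ, ∀ j i, (g ^ k).1 (e (.inr j)) (e (.inl i)) = 0 := by
      intro k
      induction k with
      | zero => intro j i; exact Matrix.one_apply_ne (fun h => Sum.inr_ne_inl (e.injective h))
      | succ k ih =>
        intro j i
        rw [pow_succ, Units.val_mul, Matrix.mul_apply, ← Equiv.sum_comp e, Fintype.sum_sum_type]
        simp [ih j, fun z => hg z i]
    have : g⁻¹ = g ^ (orderOf g - 1) := by
      rw [inv_eq_iff_mul_eq_one, ← pow_succ', Nat.sub_add_cancel (orderOf_pos g), pow_orderOf_eq_one]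
    intro j i
    rw [this]; exact hS _ j i

theorem mul_apply_inl (e : κ ⊕ μ ≃ ι) (g : GL ι F) {h : GL ι F} (hh : h ∈ P e) (a : ι) (i : κ) :
    (g.1 * h.1) a (e (.inl i)) = ∑ z, g.1 a (e (.inl z)) * h.1 (e (.inl z)) (e (.inl i)) := by
  rw [Matrix.mul_apply, ← Equiv.sum_comp e, Fintype.sum_sum_type,
    Finset.sum_eq_zero (fun z _ => by rw [hh z i, mul_zero] : ∀ z ∈ (Finset.univ : Finset μ), _), add_zero]

theorem mul_apply_inr (e : κ ⊕ μ ≃ ι) {g : GL ι F} (hg : g ∈ P e) (h : GL ι F) (j : μ) (b : ι) :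
    (g.1 * h.1) (e (.inr j)) b = ∑ z, g.1 (e (.inr j)) (e (.inr z)) * h.1 (e (.inr z)) b := by
  rw [Matrix.mul_apply, ← Equiv.sum_comp e, Fintype.sum_sum_type,
    Finset.sum_eq_zero (fun z _ => by rw [hg j z, zero_mul] : ∀ z ∈ (Finset.univ : Finset κ), _), zero_add]

/-- The top diagonal block. -/
def p1M (e : κ ⊕ μ ≃ ι) : P (F := F) e →* Matrix κ κ F where
  toFun g := g.1.1.submatrix (e ∘ Sum.inl) (e ∘ Sum.inl)
  map_one' := Matrix.submatrix_one _ (e.injective.comp Sum.inl_injective)
  map_mul' g h := by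
    ext i j
    exact mul_apply_inl e g.1 h.2 _ j

/-- The bottom diagonal block. -/
def p2M (e : κ ⊕ μ ≃ ι) : P (F := F) e →* Matrix μ μ F where
  toFun g := g.1.1.submatrix (e ∘ Sum.inr) (e ∘ Sum.inr)
  map_one' := Matrix.submatrix_one _ (e.injective.comp Sum.inr_injective)
  map_mul' g h := by
    ext i j
    exact mul_apply_inr e g.2 h.1 i _

def p1 (e : κ ⊕ μ ≃ ι) : P (F := F) e →* GL κ F := (p1M e).toHomUnits

def p2 (e : κ ⊕ μ ≃ ι) : P (F := F) e →* GL μ F := (p2M e).toHomUnits

theorem p1_apply (e : κ ⊕ μ ≃ ι) (g : P (F := F) e) (i j : κ) :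
    (p1 e g).1 i j = g.1.1 (e (.inl i)) (e (.inl j)) := rfl

theorem p2_apply (e : κ ⊕ μ ≃ ι) (g : P (F := F) e) (i j : μ) :
    (p2 e g).1 i j = g.1.1 (e (.inr i)) (e (.inr j)) := rfl

/-- The parametrization of a parabolic by its blocks. -/
def mk (e : κ ⊕ μ ≃ ι) (A : GL κ F) (D : GL μ F) (E : Matrix κ μ F) : GL ι F where
  val := (Matrix.fromBlocks A.1 E 0 D.1).submatrix e.symm e.symm
  inv := (Matrix.fromBlocks A⁻¹.1 (-(A⁻¹.1 * E * D⁻¹.1)) 0 D⁻¹.1).submatrix e.symm e.symm
  val_inv := by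
    rw [Matrix.submatrix_mul_equiv, Matrix.fromBlocks_multiply]
    simp [Matrix.mul_assoc, ← Matrix.mul_assoc A.1 A⁻¹.1]
  inv_val := by
    rw [Matrix.submatrix_mul_equiv, Matrix.fromBlocks_multiply]
    simp [Matrix.mul_assoc]

theorem mk_apply (e : κ ⊕ μ ≃ ι) (A : GL κ F) (D : GL μ F) (E : Matrix κ μ F) (x y : κ ⊕ μ) :
    (mk e A D E).1 (e x) (e y) = Matrix.fromBlocks A.1 E 0 D.1 x y := by
  show (Matrix.fromBlocks A.1 E 0 D.1).submatrix e.symm e.symm (e x) (e y) = _
  simp

theorem mk_mem (e : κ ⊕ μ ≃ ι) (A : GL κ F) (D : GL μ F) (E : Matrix κ μ F) : mk e A D E ∈ P e := fun j i => by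
  rw [mk_apply]; rfl

theorem ext_blocks (e : κ ⊕ μ ≃ ι) {g h : GL ι F} (H : ∀ x y, g.1 (e x) (e y) = h.1 (e x) (e y)) : g = h :=
  Units.ext (Matrix.ext fun a b => by simpa using H (e.symm a) (e.symm b))

/-- The parametrization as an equivalence. -/
def parEquiv (e : κ ⊕ μ ≃ ι) : GL κ F × GL μ F × Matrix κ μ F ≃ P (F := F) e where
  toFun x := ⟨mk e x.1 x.2.1 x.2.2, mk_mem e _ _ _⟩
  invFun g := (p1 e g, p2 e g, g.1.1.submatrix (e ∘ Sum.inl) (e ∘ Sum.inr))
  left_inv x := by
    refine Prod.ext ?_ (Prod.ext ?_ ?_)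
    · exact Units.ext (Matrix.ext fun i j => by rw [p1_apply]; exact mk_apply e _ _ _ (.inl i) (.inl j))
    · exact Units.ext (Matrix.ext fun i j => by rw [p2_apply]; exact mk_apply e _ _ _ (.inr i) (.inr j))
    · exact Matrix.ext fun i j => mk_apply e _ _ _ (.inl i) (.inr j)
  right_inv g := Subtype.ext (ext_blocks e fun x y => by
    rw [mk_apply]
    rcases x with i | i <;> rcases y with j | j
    · rfl
    · rfl
    · exact (g.2 i j).symm
    · rfl)

theorem p1_parEquiv (e : κ ⊕ μ ≃ ι) (A : GL κ F) (D : GL μ F) (E : Matrix κ μ F) :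
    p1 e (parEquiv e (A, D, E)) = A := congrArg Prod.fst ((parEquiv (F := F) e).symm_apply_apply (A, D, E))

theorem p2_parEquiv (e : κ ⊕ μ ≃ ι) (A : GL κ F) (D : GL μ F) (E : Matrix κ μ F) :
    p2 e (parEquiv e (A, D, E)) = D :=
  congrArg (fun x => x.2.1) ((parEquiv (F := F) e).symm_apply_apply (A, D, E))

/-- Inflation to the parabolic. -/
def infl (e : κ ⊕ μ ≃ ι) (σ : GL κ F → ℂ) (α : GL μ F → ℂ) : P (F := F) e → ℂ :=
  fun g => σ (p1 e g) * α (p2 e g)

theorem infl_parEquiv (e : κ ⊕ μ ≃ ι) (σ : GL κ F → ℂ) (α : GL μ F → ℂ) (A : GL κ F) (D : GL μ F)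
    (E : Matrix κ μ F) : infl e σ α (parEquiv e (A, D, E)) = σ A * α D := by
  rw [infl, p1_parEquiv, p2_parEquiv]

theorem isClassFunction_infl (e : κ ⊕ μ ≃ ι) {σ : GL κ F → ℂ} {α : GL μ F → ℂ} (hσ : IsClassFunction _ σ)
    (hα : IsClassFunction _ α) : IsClassFunction (P (F := F) e) (infl e σ α) := fun g h => by
  simp only [infl, map_mul, map_inv, hσ _ _, hα _ _]

theorem isCharacter_infl (e : κ ⊕ μ ≃ ι) {σ : GL κ F → ℂ} {α : GL μ F → ℂ} (hσ : IsCharacter _ σ)
    (hα : IsCharacter _ α) : IsCharacter (P (F := F) e) (infl e σ α) :=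
  isCharacter_mul (isCharacter_comp hσ (p1 e)) (isCharacter_comp hα (p2 e))

theorem sum_parabolic (e : κ ⊕ μ ≃ ι) (f : GL ι F → ℂ) [Fintype (P (F := F) e)] :
    ∑ x : P (F := F) e, f x = ∑ A : GL κ F, ∑ D : GL μ F, ∑ E : Matrix κ μ F, f (mk e A D E) := by
  rw [← Equiv.sum_comp (parEquiv (F := F) e), Fintype.sum_prod_type]
  exact Finset.sum_congr rfl fun A _ => Fintype.sum_prod_type _

/-- Parabolic induction. -/
noncomputable def prod (e : κ ⊕ μ ≃ ι) (σ : GL κ F → ℂ) (α : GL μ F → ℂ) : GL ι F → ℂ :=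
  indFun (P (F := F) e) (infl e σ α)

end CfsgLib.GLCusp
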