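/-
Inner products of parabolically induced functions of GL_n with cuspidal first factors.
-/
import Cfsg.Agent.Lib.GLCusp.Basic
import Cfsg.Agent.Lib.GLFlags.DoubleCoset

set_option autoImplicit false

namespace CfsgLib.GLCusp

open Cfsg CfsgLib.CharTheory Matrix
open scoped BigOperators ComplexConjugate Classical

noncomputable section

variable {F : Type*} [Field F] [Fintype F] [DecidableEq F]
variable {ι κ μ κ' μ' ν ρ : Type*} [Fintype ι] [DecidableEq ι] [Fintype κ] [DecidableEq κ] [Fintype μ]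
  [DecidableEq μ] [Fintype κ'] [DecidableEq κ'] [Fintype μ'] [DecidableEq μ'] [Fintype ν] [DecidableEq ν]
  [Fintype ρ] [DecidableEq ρ]

/-- Permutation matrices. -/
def PM (π : Equiv.Perm ι) : GL ι F := (Matrix.permMatrixHom (n := ι) (R := F)).toHomUnits π

theorem PM_one : (PM 1 : GL ι F) = 1 := map_one _

theorem PM_inv (π : Equiv.Perm ι) : (PM π : GL ι F)⁻¹ = PM π⁻¹ := (map_inv _ π).symm

theorem PM_mul_apply (π : Equiv.Perm ι) (M : Matrix ι ι F) (i j : ι) :
    ((PM π : GL ι F).1 * M) i j = M (π⁻¹ i) j := by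
  show ((π⁻¹).permMatrix F * M) i j = _
  rw [Equiv.Perm.permMatrix, PEquiv.toMatrix_toPEquiv_mul]
  rfl

theorem mul_PM_apply (π : Equiv.Perm ι) (M : Matrix ι ι F) (i j : ι) :
    (M * (PM π : GL ι F).1) i j = M i (π j) := by
  show (M * (π⁻¹).permMatrix F) i j = _
  rw [Equiv.Perm.permMatrix, PEquiv.mul_toMatrix_toPEquiv]
  rfl

theorem PM_conj_apply (π : Equiv.Perm ι) (g : GL ι F) (i j : ι) :
    ((PM π)⁻¹ * g * PM π).1 i j = g.1 (π i) (π j) := by
  rw [Units.val_mul, mul_PM_apply, Units.val_mul, PM_inv, PM_mul_apply, inv_inv]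

theorem ext_congr {G : Type*} [Group G] [Fintype G] {H K : Subgroup G} (f : H → ℂ) (h : K → ℂ) {x y : G}
    (hm : x ∈ H ↔ y ∈ K) (hv : ∀ (a : x ∈ H) (b : y ∈ K), f ⟨x, a⟩ = h ⟨y, b⟩) :
    extendByZero H f x = extendByZero K h y := by
  by_cases hx : x ∈ H
  · rw [extendByZero_of_mem H f hx, extendByZero_of_mem K h (hm.mp hx)]; exact hv _ _
  · rw [extendByZero_of_not_mem H f hx, extendByZero_of_not_mem K h (mt hm.mpr hx)]

theorem ext_infl_conj (e : κ ⊕ μ ≃ ι) (σ : GL κ F → ℂ) (α : GL μ F → ℂ) (π : Equiv.Perm ι) (x : GL ι F) :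
    extendByZero (P e) (infl e σ α) ((PM π)⁻¹ * x * PM π) =
      extendByZero (P (e.trans π)) (infl (e.trans π) σ α) x := by
  refine ext_congr _ _ ?_ fun a b => ?_
  · exact forall₂_congr fun j i => by rw [PM_conj_apply]; rfl
  · show σ _ * α _ = σ _ * α _
    congr 2 <;> refine Units.ext (Matrix.ext fun i j => ?_) <;> first
      | exact PM_conj_apply π x _ _

theorem card_P (e : κ ⊕ μ ≃ ι) :
    Nat.card (P (F := F) e) = Nat.card (GL κ F × GL μ F × Matrix κ μ F) :=
  (Nat.card_congr (parEquiv e)).symm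

/-- Parabolic induction depends only on the block sizes. -/
theorem prod_indep (e e' : κ ⊕ μ ≃ ι) (σ : GL κ F → ℂ) (α : GL μ F → ℂ) : prod e' σ α = prod e σ α := by
  funext g
  simp only [prod, indFun]
  rw [card_P, card_P]
  congr 1
  refine Fintype.sum_equiv (Equiv.mulRight (PM (e.symm.trans e'))) _ _ fun x => ?_
  have he : e' = e.trans (e.symm.trans e') := by ext z; simp
  calc extendByZero (P e') (infl e' σ α) (x⁻¹ * g * x)
      = extendByZero (P (e.trans (e.symm.trans e'))) (infl (e.trans (e.symm.trans e')) σ α) (x⁻¹ * g * x) := by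
        rw [← he]
    _ = extendByZero (P e) (infl e σ α) ((PM (e.symm.trans e'))⁻¹ * (x⁻¹ * g * x) * PM (e.symm.trans e')) :=
        (ext_infl_conj e σ α _ _).symm
    _ = _ := by
        congr 1
        rw [Equiv.coe_mulRight, _root_.mul_inv_rev]
        simp only [mul_assoc]

/-- The standard splitting. -/
def e0 {a b n : ℕ} (h : a + b = n) : Fin a ⊕ Fin b ≃ Fin n := finSumFinEquiv.trans (finCongr h)

theorem upper_le_P0 {a b n : ℕ} (h : a + b = n) :
    Cfsg.upperTriangularGL n F ≤ P (F := F) (e0 h) := fun g hg j i => by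
  refine hg (show (e0 h (.inl i)) < (e0 h (.inr j)) from ?_)
  simp only [e0, Fin.lt_def, Equiv.trans_apply, finSumFinEquiv_apply_left, finSumFinEquiv_apply_right,
    finCongr_apply, Fin.val_cast, Fin.val_castAdd, Fin.val_natAdd]
  omega

/-- The untwisted intersection sum. -/
def J0 (e : κ ⊕ μ ≃ ι) (e' : κ' ⊕ μ' ≃ ι) (σ : GL κ F → ℂ) (α : GL μ F → ℂ) (τ : GL κ' F → ℂ)
    (β : GL μ' F → ℂ) : ℂ :=
  J (infl e σ α) (infl e' τ β) 1

theorem J_PM (e : κ ⊕ μ ≃ ι) (e' : κ' ⊕ μ' ≃ ι) (σ : GL κ F → ℂ) (α : GL μ F → ℂ) (τ : GL κ' F → ℂ)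
    (β : GL μ' F → ℂ) (π : Equiv.Perm ι) :
    J (infl e σ α) (infl e' τ β) (PM π) = J0 e (e'.trans π) σ α τ β := by
  refine Finset.sum_congr rfl fun x _ => ?_
  rw [ext_infl_conj, inv_one, one_mul, mul_one]

theorem exists_J0_ne_zero {n a b a' b' : ℕ} (e : Fin a ⊕ Fin b ≃ Fin n) (e' : Fin a' ⊕ Fin b' ≃ Fin n)
    {σ : GL (Fin a) F → ℂ} {α : GL (Fin b) F → ℂ} {τ : GL (Fin a') F → ℂ} {β : GL (Fin b') F → ℂ}
    (hσ : IsClassFunction _ σ) (hα : IsClassFunction _ α) (hτ : IsClassFunction _ τ) (hβ : IsClassFunction _ β)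
    (h : classInner (prod e σ α) (prod e' τ β) ≠ 0) :
    ∃ (f : Fin a ⊕ Fin b ≃ Fin n) (f' : Fin a' ⊕ Fin b' ≃ Fin n), J0 f f' σ α τ β ≠ 0 := by
  have ha : a + b = n := by simpa using Fintype.card_congr e
  have ha' : a' + b' = n := by simpa using Fintype.card_congr e'
  rw [prod_indep (e0 ha) e, prod_indep (e0 ha') e', prod, prod, inner_ind_ind] at h
  obtain ⟨g, -, hg⟩ := Finset.exists_ne_zero_of_sum_ne_zero (right_ne_zero_of_mul h)
  obtain ⟨p, hp, π, q, hq, rfl⟩ := CfsgLib.GLFlags.exists_bruhat g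
  rw [J_mul_right _ (isClassFunction_infl _ hτ hβ) (upper_le_P0 ha' hq),
    J_mul_left (isClassFunction_infl _ hσ hα) _ (upper_le_P0 ha hp)] at hg
  exact ⟨e0 ha, (e0 ha').trans π, by rwa [← J_PM]⟩

theorem J0_symm (e : κ ⊕ μ ≃ ι) (e' : κ' ⊕ μ' ≃ ι) (σ : GL κ F → ℂ) (α : GL μ F → ℂ) (τ : GL κ' F → ℂ)
    (β : GL μ' F → ℂ) : J0 e' e τ β σ α = conj (J0 e e' σ α τ β) := by
  rw [J0, J0, J, J, map_sum]
  refine Finset.sum_congr rfl fun x _ => ?_
  rw [inv_one, one_mul, mul_one, map_mul, Complex.conj_conj, mul_comm]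

theorem mk_mul (e : κ ⊕ μ ≃ ι) (A A' : GL κ F) (D D' : GL μ F) (E E' : Matrix κ μ F) :
    mk e A D E * mk e A' D' E' = mk e (A * A') (D * D') (A.1 * E' + E * D'.1) := by
  refine Units.ext ?_
  show (Matrix.fromBlocks A.1 E 0 D.1).submatrix e.symm e.symm *
    (Matrix.fromBlocks A'.1 E' 0 D'.1).submatrix e.symm e.symm = _
  rw [Matrix.submatrix_mul_equiv, Matrix.fromBlocks_multiply]
  simp only [Matrix.zero_mul, Matrix.mul_zero, add_zero, zero_add]
  rfl

/-- The embedding of the top block. -/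
def emb1 (e : κ ⊕ μ ≃ ι) : GL κ F →* GL ι F where
  toFun A := mk e A 1 0
  map_one' := ext_blocks e fun x y => by
    rw [mk_apply, Units.val_one, Units.val_one, Matrix.fromBlocks_one, Units.val_one,
      ← Matrix.submatrix_apply (A := (1 : Matrix ι ι F)) (r := e) (c := e), Matrix.submatrix_one_equiv]
  map_mul' A A' := by rw [mk_mul]; simp

theorem p1_mul_emb (e : κ ⊕ μ ≃ ι) {x : GL ι F} (hx : x ∈ P e) (u : GL κ F)
    (hxu : x * emb1 e u ∈ P e) :
    p1 e ⟨x * emb1 e u, hxu⟩ = p1 e ⟨x, hx⟩ * u ∧ p2 e ⟨x * emb1 e u, hxu⟩ = p2 e ⟨x, hx⟩ := by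
  have : (⟨x * emb1 e u, hxu⟩ : P e) = ⟨x, hx⟩ * parEquiv e (u, 1, 0) := rfl
  rw [this, map_mul, map_mul, p1_parEquiv, p2_parEquiv, mul_one]
  exact ⟨rfl, rfl⟩

/-- A cuspidal first factor is not split by the other flag. -/
theorem J0_eq_zero_of_split (e : κ ⊕ μ ≃ ι) (e' : κ' ⊕ μ' ≃ ι) {σ : GL κ F → ℂ} (hσ : IsCharacter _ σ)
    (hc : Cusp σ) (α : GL μ F → ℂ) (τ : GL κ' F → ℂ) (β : GL μ' F → ℂ)
    (h1 : ∃ i : κ, ∃ k, e' (.inl k) = e (.inl i)) (h2 : ∃ i : κ, ∀ k, e' (.inl k) ≠ e (.inl i)) :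
    J0 e e' σ α τ β = 0 := by
  let t : ι → Prop := fun z => ∃ k, e' (.inl k) = z
  let s' : κ → Prop := fun i => t (e (.inl i))
  have hU : ∀ u : U F s', emb1 e (u : GL κ F) ∈ U F t := by
    intro u a b hab
    obtain ⟨x, rfl⟩ := e.surjective a
    obtain ⟨y, rfl⟩ := e.surjective b
    show (mk e (u : GL κ F) 1 0).1 (e x) (e y) = _
    rw [mk_apply]
    rcases x with i | i <;> rcases y with j | j
    · rw [Matrix.fromBlocks_apply₁₁, u.2 i j hab]
      by_cases hij : i = j
      · subst hij; simp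
      · rw [Matrix.one_apply_ne hij, Matrix.one_apply_ne (by simpa using hij)]
    · rw [Matrix.one_apply_ne (by simp)]; rfl
    · rw [Matrix.one_apply_ne (by simp)]; rfl
    · rw [Matrix.fromBlocks_apply₂₂]
      by_cases hij : i = j
      · subst hij; simp
      · rw [Units.val_one, Matrix.one_apply_ne hij, Matrix.one_apply_ne (by simpa using hij)]
  have htP : ∀ v : GL ι F, v ∈ U F t → ∃ hv : v ∈ P e', p1 e' ⟨v, hv⟩ = 1 ∧ p2 e' ⟨v, hv⟩ = 1 := by
    intro v hv
    have hv' : v ∈ P e' := fun j i => by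
      rw [hv _ _ fun h => h.2 ⟨i, rfl⟩, Matrix.one_apply_ne (by simp)]
    refine ⟨hv', Units.ext (Matrix.ext fun i j => ?_), Units.ext (Matrix.ext fun i j => ?_)⟩
    · rw [p1_apply, hv _ _ fun h => h.2 ⟨j, rfl⟩]
      by_cases hij : i = j
      · subst hij; simp
      · rw [Units.val_one, Matrix.one_apply_ne hij, Matrix.one_apply_ne (by simpa using hij)]
    · rw [p2_apply, hv _ _ fun h => by obtain ⟨k, hk⟩ := h.1; simp at hk]
      by_cases hij : i = j
      · subst hij; simp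
      · rw [Units.val_one, Matrix.one_apply_ne hij, Matrix.one_apply_ne (by simpa using hij)]
  have hR : ∀ (x : GL ι F) (u : U F s'), extendByZero (P e') (infl e' τ β) (x * emb1 e (u : GL κ F)) =
      extendByZero (P e') (infl e' τ β) x := by
    intro x u
    obtain ⟨hv, h1', h2'⟩ := htP _ (hU u)
    refine ext_congr _ _ ((P e').mul_mem_cancel_right hv) fun a b => ?_
    show τ _ * β _ = τ _ * β _
    rw [show (⟨x * emb1 e (u : GL κ F), a⟩ : P e') = ⟨x, b⟩ * ⟨_, hv⟩ from rfl, map_mul, map_mul, h1', h2',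
      mul_one, mul_one]
  have hL : ∀ x : GL ι F, ∑ u : U F s', extendByZero (P e) (infl e σ α) (x * emb1 e (u : GL κ F)) = 0 := by
    intro x
    by_cases hx : x ∈ P e
    · calc _ = ∑ u : U F s', σ (p1 e ⟨x, hx⟩ * u) * α (p2 e ⟨x, hx⟩) := Finset.sum_congr rfl fun u _ => by
            have hm : x * emb1 e (u : GL κ F) ∈ P e := (P e).mul_mem hx (mk_mem e _ _ _)
            rw [extendByZero_of_mem _ _ hm, infl, (p1_mul_emb e hx _ hm).1, (p1_mul_emb e hx _ hm).2]
        _ = 0 := by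
            rw [← Finset.sum_mul, sum_shift_eq_zero hσ (U F s') (hc s' h1 ?_), zero_mul]
            obtain ⟨i, hi⟩ := h2
            exact ⟨i, fun ⟨k, hk⟩ => hi k hk⟩
    · exact Finset.sum_eq_zero fun u _ => extendByZero_of_not_mem _ _ fun h =>
        hx (((P e).mul_mem_cancel_right (mk_mem e _ _ _)).mp h)
  have key : (Fintype.card (U F s') : ℂ) * J0 e e' σ α τ β = 0 := by
    rw [← nsmul_eq_mul, ← Finset.card_univ, ← Finset.sum_const]
    calc ∑ u : U F s', J0 e e' σ α τ β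
        = ∑ u : U F s', ∑ x : GL ι F, extendByZero (P e) (infl e σ α) (x * emb1 e (u : GL κ F)) *
            conj (extendByZero (P e') (infl e' τ β) x) := Finset.sum_congr rfl fun u _ => by
          rw [J0, J]
          refine (Fintype.sum_equiv (Equiv.mulRight (emb1 e (u : GL κ F))) _ _ fun x => ?_).symm
          rw [Equiv.coe_mulRight, inv_one, one_mul, mul_one, hR x u]
      _ = 0 := by
          rw [Finset.sum_comm]
          exact Finset.sum_eq_zero fun x _ => by rw [← Finset.sum_mul, hL x, zero_mul]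
  exact (mul_eq_zero.mp key).resolve_left (Nat.cast_ne_zero.mpr Fintype.card_ne_zero)

/-- Constant term paired with a function of the top block. -/
def H (e : κ ⊕ μ ≃ ι) (χ : GL ι F → ℂ) (σ : GL κ F → ℂ) : GL μ F → ℂ :=
  fun D => ∑ A : GL κ F, ∑ E : Matrix κ μ F, χ (mk e A D E) * conj (σ A)

theorem isClassFunction_H (e : κ ⊕ μ ≃ ι) {χ : GL ι F → ℂ} (hχ : IsClassFunction _ χ) (σ : GL κ F → ℂ) :
    IsClassFunction (GL μ F) (H e χ σ) := by
  intro D d
  refine Finset.sum_congr rfl fun A _ => ?_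
  refine Fintype.sum_equiv
    (⟨fun E => E * d.1, fun E => E * d⁻¹.1,
      fun E => by
        show E * d.1 * d⁻¹.1 = E
        rw [Matrix.mul_assoc, ← Units.val_mul, mul_inv_cancel, Units.val_one, Matrix.mul_one],
      fun E => by
        show E * d⁻¹.1 * d.1 = E
        rw [Matrix.mul_assoc, ← Units.val_mul, inv_mul_cancel, Units.val_one, Matrix.mul_one]⟩ :
      Matrix κ μ F ≃ Matrix κ μ F) _ _ fun E => ?_
  congr 1
  rw [← hχ (mk e A (d * D * d⁻¹) E) (mk e 1 d⁻¹ 0)]
  congr 1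
  rw [show (mk e 1 d⁻¹ 0)⁻¹ = mk e 1 d (0 : Matrix κ μ F) from inv_eq_of_mul_eq_one_right (by
      rw [mk_mul, mul_one, inv_mul_cancel, Matrix.mul_zero, Matrix.zero_mul, add_zero]
      exact map_one (emb1 e)),
    mk_mul, mk_mul]
  simp [mul_assoc]

theorem inner_prod_eq (e : κ ⊕ μ ≃ ι) {χ : GL ι F → ℂ} (hχ : IsClassFunction _ χ) (σ : GL κ F → ℂ)
    (α : GL μ F → ℂ) :
    classInner χ (prod e σ α) = (Nat.card (P (F := F) e) : ℂ)⁻¹ * ∑ D : GL μ F, H e χ σ D * conj (α D) := by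
  rw [prod, frobenius_reciprocity' _ _ hχ, classInner, ← Equiv.sum_comp (parEquiv (F := F) e),
    Fintype.sum_prod_type]
  congr 1
  simp only [H, Finset.sum_mul]
  conv_rhs => rw [Finset.sum_comm]
  refine Finset.sum_congr rfl fun A _ => ?_
  rw [Fintype.sum_prod_type]
  refine Finset.sum_congr rfl fun D _ => Finset.sum_congr rfl fun E _ => ?_
  rw [infl_parEquiv, map_mul]
  show χ (mk e A D E) * _ = _
  ring

theorem exists_prod_of_H_ne_zero (e : κ ⊕ μ ≃ ι) {χ : GL ι F → ℂ} (hχ : IsClassFunction _ χ)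
    (σ : GL κ F → ℂ) (h : H e χ σ ≠ 0) :
    ∃ α : GL μ F → ℂ, IsIrrCharacter _ α ∧ classInner χ (prod e σ α) ≠ 0 := by
  obtain ⟨α, hα, hne⟩ := exists_constituent (isClassFunction_H e hχ σ) h
  refine ⟨α, hα, ?_⟩
  rw [inner_prod_eq e hχ]
  exact mul_ne_zero (inv_ne_zero (Nat.cast_ne_zero.mpr Nat.card_pos.ne')) (right_ne_zero_of_mul hne)

theorem J0_self (e : κ ⊕ μ ≃ ι) (σ τ : GL κ F → ℂ) (α β : GL μ F → ℂ) :
    J0 e e σ α τ β = (Fintype.card (Matrix κ μ F) : ℂ) * (∑ A, σ A * conj (τ A)) * ∑ D, α D * conj (β D) := by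
  rw [J0, J, sum_extendByZero, ← Equiv.sum_comp (parEquiv (F := F) e), Fintype.sum_prod_type,
    mul_assoc, Finset.sum_mul_sum, Finset.mul_sum]
  refine Finset.sum_congr rfl fun A _ => ?_
  rw [Fintype.sum_prod_type, Finset.mul_sum]
  refine Finset.sum_congr rfl fun D _ => ?_
  rw [← nsmul_eq_mul, ← Finset.card_univ, ← Finset.sum_const]
  refine Finset.sum_congr rfl fun E _ => ?_
  rw [inv_one, one_mul, mul_one, extendByZero_coe, infl_parEquiv, infl_parEquiv, map_mul]
  ring

theorem mem_split (e : κ ⊕ μ ≃ ι) (z : ι) : (∃ i, e (.inl i) = z) ∨ ∃ j, e (.inr j) = z := by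
  obtain ⟨x | x, rfl⟩ := e.surjective z
  exacts [.inl ⟨x, rfl⟩, .inr ⟨x, rfl⟩]

/-- Disjoint top blocks. -/
theorem J0_disjoint (e : κ ⊕ μ ≃ ι) (e' : ν ⊕ μ' ≃ ι) (φ : ν ⊕ ρ ≃ μ) (φ' : κ ⊕ ρ ≃ μ')
    (hκ : ∀ i, e' (.inr (φ' (.inl i))) = e (.inl i)) (hν : ∀ j, e (.inr (φ (.inl j))) = e' (.inl j))
    (hρ : ∀ k, e' (.inr (φ' (.inr k))) = e (.inr (φ (.inr k))))
    (σ : GL κ F → ℂ) (α : GL μ F → ℂ) (τ : GL ν F → ℂ) (β : GL μ' F → ℂ) :
    J0 e e' σ α τ β = ∑ D : GL ρ F, H φ α τ D * conj (H φ' β σ D) := by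
  let T := (GL κ F × GL ν F × GL ρ F) × Matrix ν ρ F × Matrix κ ρ F
  let mu : Matrix κ ρ F → Matrix κ μ F := fun E => (Matrix.fromCols 0 E).submatrix id φ.symm
  let M : T → GL ι F := fun x => mk e x.1.1 (mk φ x.1.2.1 x.1.2.2 x.2.1) (mu x.2.2)
  have hmu : ∀ E i (z : ν ⊕ ρ), mu E i (φ z) = Matrix.fromCols (0 : Matrix κ ν F) E i z := fun E i z => by
    simp [mu]
  -- entries of `M` in the coordinates of the second splitting
  have hM : ∀ x : T, M x = mk e' x.1.2.1 (mk φ' x.1.1 x.1.2.2 x.2.2)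
      ((Matrix.fromCols 0 x.2.1).submatrix id φ'.symm) := by
    intro x
    refine ext_blocks e' fun a b => ?_
    rw [mk_apply]
    rcases a with a | a <;> rcases b with b | b
    · rw [← hν, ← hν, mk_apply, Matrix.fromBlocks_apply₂₂, mk_apply, Matrix.fromBlocks_apply₁₁]; rfl
    · obtain ⟨z, rfl⟩ := φ'.surjective b
      rcases z with z | z
      · rw [← hν, hκ, mk_apply]; simp
      · rw [← hν, hρ, mk_apply, Matrix.fromBlocks_apply₂₂, mk_apply]; simp
    · obtain ⟨z, rfl⟩ := φ'.surjective a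
      rcases z with z | z
      · rw [← hν, hκ, mk_apply, Matrix.fromBlocks_apply₁₂, hmu]; rfl
      · rw [← hν, hρ, mk_apply, Matrix.fromBlocks_apply₂₂, mk_apply]; rfl
    · obtain ⟨z, rfl⟩ := φ'.surjective a
      obtain ⟨w, rfl⟩ := φ'.surjective b
      rw [Matrix.fromBlocks_apply₂₂, mk_apply]
      rcases z with z | z <;> rcases w with w | w
      · rw [hκ, hκ, mk_apply]; rfl
      · rw [hκ, hρ, mk_apply, Matrix.fromBlocks_apply₁₂, hmu]; rfl
      · rw [hρ, hκ, mk_apply]; rfl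
      · rw [hρ, hρ, mk_apply, Matrix.fromBlocks_apply₂₂, mk_apply]; rfl
  have hinj : Function.Injective M := by
    rintro ⟨⟨A, B, D⟩, C, E⟩ ⟨⟨A', B', D'⟩, C', E'⟩ h
    have h1 := (parEquiv e).injective (Subtype.ext h : parEquiv e (A, mk φ B D C, mu E) = parEquiv e (A', _, _))
    simp only [Prod.mk.injEq] at h1
    obtain ⟨rfl, h2, h3⟩ := h1
    have h4 := (parEquiv φ).injective (Subtype.ext h2 : parEquiv φ (B, D, C) = parEquiv φ (B', D', C'))
    simp only [Prod.mk.injEq] at h4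
    obtain ⟨rfl, rfl, rfl⟩ := h4
    have h5 : E = E' := Matrix.ext fun i k => by
      have := congrFun (congrFun h3 i) (φ (.inr k))
      simpa [mu] using this
    rw [h5]
  rw [J0, J]
  refine (Fintype.sum_of_injective M hinj
    (fun x : T => σ x.1.1 * α (mk φ x.1.2.1 x.1.2.2 x.2.1) *
      conj (τ x.1.2.1 * β (mk φ' x.1.1 x.1.2.2 x.2.2))) _ ?_ fun x => ?_).symm.trans ?_
  · intro g hg
    rw [inv_one, one_mul, mul_one]
    by_cases h1 : g ∈ P e
    · by_cases h2 : g ∈ P e'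
      · exfalso
        refine hg ?_
        obtain ⟨⟨A, D', E'⟩, hx⟩ := (parEquiv e).surjective ⟨g, h1⟩
        have hg' : g = mk e A D' E' := (congrArg Subtype.val hx).symm
        have hD : D' ∈ P φ := fun k j => by
          have := h2 (φ' (.inr k)) j
          rwa [hρ, ← hν, hg', mk_apply] at this
        obtain ⟨⟨B, D, C⟩, hy⟩ := (parEquiv φ).surjective ⟨D', hD⟩
        refine ⟨((A, B, D), C, E'.submatrix id (φ ∘ Sum.inr)), ?_⟩
        rw [hg', show D' = mk φ B D C from (congrArg Subtype.val hy).symm]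
        show mk e A (mk φ B D C) _ = mk e A (mk φ B D C) E'
        congr 1
        ext i z
        obtain ⟨z, rfl⟩ := φ.surjective z
        rw [hmu]
        rcases z with z | z
        · have := h2 (φ' (.inl i)) z
          rw [hκ, ← hν, hg', mk_apply] at this
          exact this.symm
        · rfl
      · rw [extendByZero_of_not_mem (P e') _ h2, map_zero, mul_zero]
    · rw [extendByZero_of_not_mem (P e) _ h1, zero_mul]
  · rw [inv_one, one_mul, mul_one]
    have h1 : extendByZero (P e) (infl e σ α) (M x) = σ x.1.1 * α (mk φ x.1.2.1 x.1.2.2 x.2.1) := by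
      rw [extendByZero_of_mem _ _ (mk_mem e _ _ _)]
      exact infl_parEquiv e σ α _ _ _
    have h2 : extendByZero (P e') (infl e' τ β) (M x) = τ x.1.2.1 * β (mk φ' x.1.1 x.1.2.2 x.2.2) := by
      rw [hM, extendByZero_of_mem _ _ (mk_mem e' _ _ _)]
      exact infl_parEquiv e' τ β _ _ _
    rw [h1, h2]
  · simp only [H, map_sum, Finset.mul_sum, Finset.sum_mul, T, Fintype.sum_prod_type, map_mul, Complex.conj_conj]
    conv_lhs => arg 2; ext A; rw [Finset.sum_comm]
    rw [Finset.sum_comm]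
    refine Finset.sum_congr rfl fun D _ => Finset.sum_congr rfl fun A _ => ?_
    conv_rhs => rw [Finset.sum_comm]
    refine Finset.sum_congr rfl fun B _ => ?_
    rw [Finset.sum_comm]
    exact Finset.sum_congr rfl fun E _ => Finset.sum_congr rfl fun C _ => by ring

/-- The interaction of two induced characters with cuspidal first factors. -/
theorem swap_lemma {n a b a' b' : ℕ} (e : Fin a ⊕ Fin b ≃ Fin n) (e' : Fin a' ⊕ Fin b' ≃ Fin n)
    {σ : GL (Fin a) F → ℂ} {α : GL (Fin b) F → ℂ} {τ : GL (Fin a') F → ℂ} {β : GL (Fin b') F → ℂ}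
    (hσ : IsIrrCharacter _ σ) (hα : IsIrrCharacter _ α) (hτ : IsIrrCharacter _ τ) (hβ : IsIrrCharacter _ β)
    (hσc : Cusp σ) (hτc : Cusp τ) (ha : 0 < a) (ha' : 0 < a')
    (h : classInner (prod e σ α) (prod e' τ β) ≠ 0) :
    (a = a' ∧ b = b' ∧ HEq σ τ ∧ HEq α β) ∨
      ∃ (c : ℕ) (φ : Fin a' ⊕ Fin c ≃ Fin b) (φ' : Fin a ⊕ Fin c ≃ Fin b') (γ : GL (Fin c) F → ℂ),
        IsIrrCharacter _ γ ∧ classInner α (prod φ τ γ) ≠ 0 ∧ classInner β (prod φ' σ γ) ≠ 0 := by
  obtain ⟨f, f', hJ⟩ := exists_J0_ne_zero e e' (isClassFunction_irr hσ) (isClassFunction_irr hα)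
    (isClassFunction_irr hτ) (isClassFunction_irr hβ) h
  let S : Set (Fin n) := Set.range (f ∘ Sum.inl)
  let T : Set (Fin n) := Set.range (f' ∘ Sum.inl)
  have dS : S ⊆ T ∨ Disjoint S T := by
    by_contra hn
    rw [not_or, Set.not_subset, Set.not_disjoint_iff] at hn
    obtain ⟨⟨_, ⟨i, rfl⟩, hi⟩, _, ⟨i', rfl⟩, k, hk⟩ := hn
    exact hJ (J0_eq_zero_of_split f f' (isCharacter_of_irr hσ) hσc α τ β ⟨i', k, hk⟩
      ⟨i, fun k hk => hi ⟨k, hk⟩⟩)
  have dT : T ⊆ S ∨ Disjoint T S := by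
    by_contra hn
    rw [not_or, Set.not_subset, Set.not_disjoint_iff] at hn
    obtain ⟨⟨_, ⟨i, rfl⟩, hi⟩, _, ⟨i', rfl⟩, k, hk⟩ := hn
    refine hJ ?_
    rw [J0_symm, J0_eq_zero_of_split f' f (isCharacter_of_irr hτ) hτc β σ α ⟨i', k, hk⟩
      ⟨i, fun k hk => hi ⟨k, hk⟩⟩, map_zero]
  have hSne : S.Nonempty := ⟨_, ⟨⟨0, ha⟩, rfl⟩⟩
  have hTne : T.Nonempty := ⟨_, ⟨⟨0, ha'⟩, rfl⟩⟩
  by_cases hd : Disjoint S T
  · right
    have hn : a + b = n := by simpa using Fintype.card_congr f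
    have hn' : a' + b' = n := by simpa using Fintype.card_congr f'
    have hψ : ∀ j : Fin a', ∃ z : Fin b, f (.inr z) = f' (.inl j) := fun j =>
      (mem_split f (f' (.inl j))).resolve_left fun ⟨i, hi⟩ =>
        Set.disjoint_left.mp hd ⟨i, rfl⟩ ⟨j, hi.symm⟩
    choose ψ hψ using hψ
    have hψi : Function.Injective ψ := fun j k hjk => by
      have := (hψ j).symm.trans ((congrArg (fun z => f (.inr z)) hjk).trans (hψ k))
      exact Sum.inl_injective (f'.injective this)
    let W := {z : Fin b // z ∉ Set.range ψ}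
    let c := Fintype.card W
    have hb : a' + c = b := by
      have h1 := Fintype.card_congr (Equiv.sumCompl (· ∈ Set.range ψ))
      rw [Fintype.card_sum, ← Fintype.card_congr (Equiv.ofInjective ψ hψi), Fintype.card_fin,
        Fintype.card_fin] at h1
      convert h1 using 2
    let φ0 : Fin a' ⊕ Fin c → Fin b := Sum.elim ψ (fun k => ((Fintype.equivFin W).symm k).1)
    have hφ : Function.Bijective φ0 := by
      refine (Fintype.bijective_iff_injective_and_card _).mpr ⟨?_, by simp [hb]⟩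
      refine hψi.sumElim (Subtype.val_injective.comp (Equiv.injective _)) fun j k hjk => ?_
      exact ((Fintype.equivFin W).symm k).2 ⟨j, hjk⟩
    let φ := Equiv.ofBijective φ0 hφ
    have hψ' : ∀ i : Fin a, ∃ z : Fin b', f' (.inr z) = f (.inl i) := fun i =>
      (mem_split f' (f (.inl i))).resolve_left fun ⟨j, hj⟩ =>
        Set.disjoint_left.mp hd ⟨i, rfl⟩ ⟨j, hj⟩
    choose ψ' hψ' using hψ'
    have hk : ∀ k : Fin c, ∃ z : Fin b', f' (.inr z) = f (.inr (φ (.inr k))) := fun k =>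
      (mem_split f' _).resolve_left fun ⟨j, hj⟩ => by
        rw [← hψ j] at hj
        have := φ.injective (a₁ := .inl j) (a₂ := .inr k) (Sum.inr_injective (f.injective hj))
        simp at this
    choose ψ'' hψ'' using hk
    have hφ' : Function.Bijective (Sum.elim ψ' ψ'') := by
      refine (Fintype.bijective_iff_injective_and_card _).mpr ⟨?_, by simp; omega⟩
      intro x y hxy
      have hz := congrArg (fun z => f' (.inr z)) hxy
      rcases x with x | x <;> rcases y with y | y <;>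
        simp only [Sum.elim_inl, Sum.elim_inr, hψ', hψ''] at hz
      · exact congrArg _ (Sum.inl_injective (f.injective hz))
      · exact absurd (f.injective hz) (by simp)
      · exact absurd (f.injective hz) (by simp)
      · exact congrArg Sum.inr (Sum.inr_injective (φ.injective (Sum.inr_injective (f.injective hz))))
    let φ' := Equiv.ofBijective _ hφ'
    rw [J0_disjoint f f' φ φ' hψ' hψ hψ'' σ α τ β] at hJ
    have hJ' : classInner (H φ α τ) (H φ' β σ) ≠ 0 :=
      mul_ne_zero (inv_ne_zero (Nat.cast_ne_zero.mpr Nat.card_pos.ne')) hJ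
    rw [classInner_eq_sum_irr (isClassFunction_H φ (isClassFunction_irr hα) τ)] at hJ'
    obtain ⟨γ, -, hγ⟩ := Finset.exists_ne_zero_of_sum_ne_zero hJ'
    refine ⟨c, φ, φ', γ.1, γ.2, ?_, ?_⟩
    · rw [inner_prod_eq φ (isClassFunction_irr hα)]
      exact mul_ne_zero (inv_ne_zero (Nat.cast_ne_zero.mpr Nat.card_pos.ne'))
        (right_ne_zero_of_mul (left_ne_zero_of_mul hγ))
    · rw [inner_prod_eq φ' (isClassFunction_irr hβ)]
      refine mul_ne_zero (inv_ne_zero (Nat.cast_ne_zero.mpr Nat.card_pos.ne')) fun h0 => ?_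
      refine right_ne_zero_of_mul hγ ?_
      rw [← classInner_comm, classInner, h0, mul_zero, map_zero]
  · left
    have hS := dS.resolve_right hd
    have hT := dT.resolve_right fun h => hd h.symm
    have hab : a = a' := by
      have h1 : S = T := hS.antisymm hT
      have h2 := congrArg (fun X : Set (Fin n) => Nat.card X) h1
      simp only [S, T] at h2
      rw [Nat.card_range_of_injective (f.injective.comp Sum.inl_injective),
        Nat.card_range_of_injective (f'.injective.comp Sum.inl_injective)] at h2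
      simpa using h2
    subst hab
    have hbb : b = b' := by
      have hn : a + b = n := by simpa using Fintype.card_congr f
      have hn' : a + b' = n := by simpa using Fintype.card_congr f'
      omega
    subst hbb
    choose r1 hr1 using fun i : Fin a => (show f' (.inl i) ∈ S from hT ⟨i, rfl⟩)
    have hr1b : Function.Bijective r1 := Finite.injective_iff_bijective.mp fun i j hij =>
      Sum.inl_injective (f'.injective ((hr1 i).symm.trans ((congrArg (fun z => f (.inl z)) hij).trans (hr1 j))))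
    have hr2 : ∀ j : Fin b, ∃ z, f (.inr z) = f' (.inr j) := fun j =>
      (mem_split f _).resolve_left fun ⟨i, hi⟩ => by
        obtain ⟨k, hk⟩ := hS ⟨i, rfl⟩
        exact absurd (f'.injective (hk.trans hi)) (by simp)
    choose r2 hr2 using hr2
    have hr2b : Function.Bijective r2 := Finite.injective_iff_bijective.mp fun i j hij =>
      Sum.inr_injective (f'.injective ((hr2 i).symm.trans ((congrArg (fun z => f (.inr z)) hij).trans (hr2 j))))
    let R1 := Equiv.ofBijective r1 hr1b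
    let R2 := Equiv.ofBijective r2 hr2b
    have hext : ∀ x, extendByZero (P f') (infl f' τ β) x = extendByZero (P f) (infl f τ β) x := by
      intro x
      refine ext_congr _ _ ?_ fun hx hy => ?_
      · constructor
        · intro hx j i
          have := hx (R2.symm j) (R1.symm i)
          rw [← hr2, show f' (.inl (R1.symm i)) = f (.inl (r1 (R1.symm i))) from (hr1 _).symm] at this
          rwa [show r1 (R1.symm i) = i from R1.apply_symm_apply i,
            show r2 (R2.symm j) = j from R2.apply_symm_apply j] at this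
        · intro hx j i
          rw [← hr2, show f' (.inl i) = f (.inl (r1 i)) from (hr1 i).symm]
          exact hx _ _
      · show τ _ * β _ = τ _ * β _
        congr 1
        · rw [← isClassFunction_irr hτ (p1 f ⟨x, hy⟩) (PM R1)⁻¹]
          congr 1
          refine Units.ext (Matrix.ext fun i j => ?_)
          rw [inv_inv, PM_conj_apply, p1_apply, p1_apply]
          show x.1 (f' (.inl i)) (f' (.inl j)) = x.1 (f (.inl (r1 i))) (f (.inl (r1 j)))
          rw [← hr1 i, ← hr1 j]; rfl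
        · rw [← isClassFunction_irr hβ (p2 f ⟨x, hy⟩) (PM R2)⁻¹]
          congr 1
          refine Units.ext (Matrix.ext fun i j => ?_)
          rw [inv_inv, PM_conj_apply, p2_apply, p2_apply]
          show x.1 (f' (.inr i)) (f' (.inr j)) = x.1 (f (.inr (r2 i))) (f (.inr (r2 j)))
          rw [hr2, hr2]
    have hJ' : J0 f f σ α τ β ≠ 0 := by
      intro h0
      refine hJ (Eq.trans ?_ h0)
      rw [J0, J0, J, J]
      exact Finset.sum_congr rfl fun x _ => by rw [hext]
    rw [J0_self] at hJ'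
    refine ⟨rfl, rfl, heq_of_eq ?_, heq_of_eq ?_⟩
    · by_contra hne
      refine right_ne_zero_of_mul (left_ne_zero_of_mul hJ') ?_
      have := classInner_irr_ne hσ hτ hne
      exact (mul_eq_zero.mp this).resolve_left (inv_ne_zero (Nat.cast_ne_zero.mpr Nat.card_pos.ne'))
    · by_contra hne
      refine right_ne_zero_of_mul hJ' ?_
      have := classInner_irr_ne hα hβ hne
      exact (mul_eq_zero.mp this).resolve_left (inv_ne_zero (Nat.cast_ne_zero.mpr Nat.card_pos.ne'))

end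

end CfsgLib.GLCusp
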