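/-
Monomial matrices, upper unitriangular matrices, and the double cosets supporting the Gelfand–Graev character.
-/
import Cfsg.Agent.Lib.GLFlags.DoubleCoset

set_option autoImplicit false

namespace CfsgLib.GLCusp

open Matrix
open scoped BigOperators

variable {F : Type*} [Field F] [Fintype F] [DecidableEq F] {n : ℕ}

/-- Upper unitriangular matrices. -/
def Uni (F : Type*) [Field F] [Fintype F] [DecidableEq F] (n : ℕ) : Subgroup (GL (Fin n) F) where
  carrier := {g | ∀ i j, j ≤ i → g.1 i j = (1 : Matrix (Fin n) (Fin n) F) i j}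
  one_mem' := fun _ _ _ => rfl
  mul_mem' := by
    intro g h hg hh i j hij
    show (g.1 * h.1) i j = _
    rw [Matrix.mul_apply, Finset.sum_eq_single i]
    · rw [hg i i le_rfl, Matrix.one_apply_eq, one_mul, hh i j hij]
    · intro k _ hk
      rcases lt_or_gt_of_ne hk with h1 | h1
      · rw [hg i k h1.le, Matrix.one_apply_ne hk.symm, zero_mul]
      · rw [hh k j (hij.trans h1.le), Matrix.one_apply_ne (hij.trans_lt h1).ne', mul_zero]
    · simp
  inv_mem' := by
    intro g hg
    have hS : ∀ k : ℕ, ∀ i j, j ≤ i → (g ^ k).1 i j = (1 : Matrix (Fin n) (Fin n) F) i j := by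
      intro k
      induction k with
      | zero => intro i j _; rw [pow_zero, Units.val_one]
      | succ k ih =>
        intro i j hij
        rw [pow_succ, Units.val_mul, Matrix.mul_apply, Finset.sum_eq_single i]
        · rw [ih i i le_rfl, Matrix.one_apply_eq, one_mul, hg i j hij]
        · intro l _ hl
          rcases lt_or_gt_of_ne hl with h1 | h1
          · rw [ih i l h1.le, Matrix.one_apply_ne hl.symm, zero_mul]
          · rw [hg l j (hij.trans h1.le), Matrix.one_apply_ne (hij.trans_lt h1).ne', mul_zero]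
        · simp
    have : g⁻¹ = g ^ (orderOf g - 1) := by
      rw [inv_eq_iff_mul_eq_one, ← pow_succ', Nat.sub_add_cancel (orderOf_pos g), pow_orderOf_eq_one]
    show ∀ i j, j ≤ i → (g⁻¹).1 i j = _
    rw [this]; exact hS _

theorem uni_diag {u : GL (Fin n) F} (hu : u ∈ Uni F n) (i : Fin n) : u.1 i i = 1 := by
  rw [hu i i le_rfl, Matrix.one_apply_eq]

theorem uni_low {u : GL (Fin n) F} (hu : u ∈ Uni F n) {i j : Fin n} (h : j < i) : u.1 i j = 0 := by
  rw [hu i j h.le, Matrix.one_apply_ne h.ne']

/-- Sum of the superdiagonal. -/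
def sd (M : Matrix (Fin n) (Fin n) F) : F := ∑ i, ∑ j, if i.val + 1 = j.val then M i j else 0

theorem uni_mul_super {u v : GL (Fin n) F} (hu : u ∈ Uni F n) (hv : v ∈ Uni F n) {i j : Fin n}
    (h : i.val + 1 = j.val) : (u * v).1 i j = u.1 i j + v.1 i j := by
  have hij : i ≠ j := fun h' => by rw [h'] at h; omega
  rw [Units.val_mul, Matrix.mul_apply, ← Finset.sum_subset (Finset.subset_univ {i, j}), Finset.sum_pair hij,
    uni_diag hu, uni_diag hv, one_mul, mul_one, add_comm]
  intro k _ hk
  simp only [Finset.mem_insert, Finset.mem_singleton, not_or, Fin.ext_iff] at hk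
  rcases lt_or_gt_of_ne hk.1 with h1 | h1
  · rw [uni_low hu (show k < i from h1), zero_mul]
  · rw [uni_low hv (show j < k from by rw [Fin.lt_def]; omega), mul_zero]

theorem sd_mul {u v : GL (Fin n) F} (hu : u ∈ Uni F n) (hv : v ∈ Uni F n) :
    sd (u * v).1 = sd u.1 + sd v.1 := by
  simp only [sd, ← Finset.sum_add_distrib]
  refine Finset.sum_congr rfl fun i _ => Finset.sum_congr rfl fun j _ => ?_
  split
  · next h => rw [uni_mul_super hu hv h]
  · rw [add_zero]

theorem sd_one : sd (1 : Matrix (Fin n) (Fin n) F) = 0 := by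
  refine Finset.sum_eq_zero fun i _ => Finset.sum_eq_zero fun j _ => ?_
  split
  · next h => exact Matrix.one_apply_ne (fun h' => by rw [h'] at h; omega)
  · rfl

/-- Monomial matrices. -/
def mon (π : Equiv.Perm (Fin n)) (t : Fin n → Fˣ) : GL (Fin n) F where
  val := Matrix.of fun i j => if π i = j then (t i : F) else 0
  inv := Matrix.of fun i j => if π j = i then ((t j)⁻¹ : Fˣ) else 0
  val_inv := by
    ext i j
    rw [Matrix.mul_apply, Finset.sum_eq_single (π i) (fun k _ hk => by simp [Ne.symm hk]) (by simp)]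
    by_cases h : i = j
    · subst h; simp
    · simp [Matrix.one_apply_ne h, Ne.symm h]
  inv_val := by
    ext i j
    rw [Matrix.mul_apply, Finset.sum_eq_single (π.symm i)
      (fun k _ hk => by
        have : π k ≠ i := fun h => hk (by rw [← h, Equiv.symm_apply_apply])
        simp [this]) (by simp)]
    by_cases h : i = j
    · subst h; simp
    · simp [Matrix.one_apply_ne h, h]

theorem mon_apply (π : Equiv.Perm (Fin n)) (t : Fin n → Fˣ) (i j : Fin n) :
    (mon π t).1 i j = if π i = j then (t i : F) else 0 := rfl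

theorem mon_mul_apply (π : Equiv.Perm (Fin n)) (t : Fin n → Fˣ) (M : Matrix (Fin n) (Fin n) F) (i j : Fin n) :
    ((mon π t).1 * M) i j = t i * M (π i) j := by
  rw [Matrix.mul_apply, Finset.sum_eq_single (π i) (fun k _ hk => by simp [mon_apply, Ne.symm hk]) (by simp),
    mon_apply, if_pos rfl]

theorem mul_mon_apply (π : Equiv.Perm (Fin n)) (t : Fin n → Fˣ) (M : Matrix (Fin n) (Fin n) F) (i j : Fin n) :
    (M * (mon π t).1) i (π j) = M i j * t j := by
  rw [Matrix.mul_apply, Finset.sum_eq_single j (fun k _ hk => by simp [mon_apply, hk]) (by simp),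
    mon_apply, if_pos rfl]

theorem mon_mul_mon (π π' : Equiv.Perm (Fin n)) (t t' : Fin n → Fˣ) :
    mon π t * mon π' t' = mon (π.trans π') (fun i => t i * t' (π i)) := by
  refine Units.ext (Matrix.ext fun i j => ?_)
  rw [Units.val_mul, mon_mul_apply, mon_apply, mon_apply, Equiv.trans_apply]
  split <;> simp

/-- Transvections. -/
def tv (a b : Fin n) (h : a ≠ b) (z : F) : GL (Fin n) F where
  val := transvection a b z
  inv := transvection a b (-z)
  val_inv := by rw [transvection_mul_transvection_same a b h, add_neg_cancel, transvection_zero]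
  inv_val := by rw [transvection_mul_transvection_same a b h, neg_add_cancel, transvection_zero]

theorem tv_apply (a b : Fin n) (h : a ≠ b) (z : F) (i j : Fin n) :
    (tv a b h z).1 i j = (1 : Matrix (Fin n) (Fin n) F) i j + if a = i ∧ b = j then z else 0 := by
  show transvection a b z i j = _
  simp [transvection, Matrix.single_apply]

theorem tv_mem (a b : Fin n) (h : a < b) (z : F) : tv a b h.ne z ∈ Uni F n := fun i j hij => by
  rw [tv_apply, if_neg, add_zero]
  rintro ⟨rfl, rfl⟩
  exact absurd h (not_lt.mpr hij)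

theorem sd_tv (a b : Fin n) (h : a ≠ b) (z : F) :
    sd (tv a b h z).1 = if a.val + 1 = b.val then z else 0 := by
  have e : ∀ i j : Fin n, (if i.val + 1 = j.val then (tv a b h z).1 i j else 0) =
      if a = i ∧ b = j then (if a.val + 1 = b.val then z else 0) else 0 := by
    intro i j
    rw [tv_apply]
    by_cases hc : a = i ∧ b = j
    · obtain ⟨rfl, rfl⟩ := hc
      simp [Matrix.one_apply_ne h]
    · rw [if_neg hc, if_neg hc]
      split
      · next h' => rw [Matrix.one_apply_ne (fun e => by rw [e] at h'; omega), add_zero]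
      · rfl
  simp only [sd, e]
  rw [Finset.sum_eq_single a (fun i _ hi => Finset.sum_eq_zero fun j _ => if_neg fun h' => hi h'.1.symm) (by simp),
    Finset.sum_eq_single b (fun j _ hj => if_neg fun h' => hj h'.2.symm) (by simp), if_pos ⟨rfl, rfl⟩]

theorem tv_mul_mon (π : Equiv.Perm (Fin n)) (t : Fin n → Fˣ) (a b : Fin n) (h : a ≠ b) (z : F) :
    tv a b h z * mon π t =
      mon π t * tv (π a) (π b) (π.injective.ne h) (z * t b / t a) := by
  refine Units.ext (Matrix.ext fun i j => ?_)
  obtain ⟨j, rfl⟩ := π.surjective j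
  rw [Units.val_mul, Units.val_mul, mul_mon_apply, mon_mul_apply, tv_apply, tv_apply]
  simp only [π.injective.eq_iff, Matrix.one_apply]
  by_cases hc : a = i ∧ b = j
  · obtain ⟨rfl, rfl⟩ := hc
    simp [h]; field_simp
  · simp only [hc, if_false, add_zero]
    split
    · next e => subst e; ring
    · ring

/-- Every element is a monomial matrix between two unitriangular ones. -/
theorem exists_decomp (g : GL (Fin n) F) : ∃ u ∈ Uni F n, ∃ (π : Equiv.Perm (Fin n)) (t : Fin n → Fˣ),
    ∃ v ∈ Uni F n, g = u * mon π t * v := by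
  obtain ⟨b, hb, σ, c, hc, rfl⟩ := CfsgLib.GLFlags.exists_bruhat g
  have key : ∀ x : GL (Fin n) F, x ∈ Cfsg.upperTriangularGL n F → ∀ i, x.1 i i ≠ 0 := by
    intro x hx i h0
    have hd : x.1.det = ∏ k, x.1 k k := Matrix.det_of_upperTriangular hx
    exact ((Matrix.isUnit_iff_isUnit_det _).mp x.isUnit).ne_zero
      (hd.trans (Finset.prod_eq_zero (Finset.mem_univ i) h0))
  let s : Fin n → Fˣ := fun i => Units.mk0 _ (key b hb i)
  let s' : Fin n → Fˣ := fun i => Units.mk0 _ (key c hc i)
  have hl : b * (mon 1 s)⁻¹ ∈ Uni F n := by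
    intro i j hij
    show (b.1 * (Matrix.of fun x y : Fin n => if (1 : Equiv.Perm (Fin n)) y = x then (((s y)⁻¹ : Fˣ) : F) else 0)) i j = _
    rw [Matrix.mul_apply, Finset.sum_eq_single j (fun k _ hk => by simp [Ne.symm hk]) (by simp)]
    rcases hij.eq_or_lt with h | h
    · subst h; simp [s, mul_inv_cancel₀ (key b hb j)]
    · simp [hb h, Matrix.one_apply_ne h.ne']
  have hr : (mon 1 s')⁻¹ * c ∈ Uni F n := by
    intro i j hij
    show ((Matrix.of fun x y : Fin n => if (1 : Equiv.Perm (Fin n)) y = x then (((s' y)⁻¹ : Fˣ) : F) else 0) * c.1) i j = _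
    rw [Matrix.mul_apply, Finset.sum_eq_single i (fun k _ hk => by simp [hk]) (by simp)]
    rcases hij.eq_or_lt with h | h
    · subst h; simp [s', inv_mul_cancel₀ (key c hc _)]
    · simp [hc h, Matrix.one_apply_ne h.ne']
  have hσ : (CfsgLib.GLFlags.permGL σ : GL (Fin n) F) = mon σ⁻¹ 1 := Units.ext (Matrix.ext fun i j => by
    rw [CfsgLib.GLFlags.permGL_apply, mon_apply]; rfl)
  refine ⟨_, hl, ((1 : Equiv.Perm (Fin n)).trans σ⁻¹).trans 1,
    fun i => s i * (1 : Fin n → Fˣ) ((1 : Equiv.Perm (Fin n)) i) *
      s' (((1 : Equiv.Perm (Fin n)).trans σ⁻¹) i), _, hr, ?_⟩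
  rw [← mon_mul_mon _ 1 _ s', ← mon_mul_mon 1 σ⁻¹ s 1, hσ]
  group

/-- The monomial part is unique. -/
theorem mon_unique {u v : GL (Fin n) F} (hu : u ∈ Uni F n) (hv : v ∈ Uni F n) {π π' : Equiv.Perm (Fin n)}
    {t t' : Fin n → Fˣ} (h : u * mon π t = mon π' t' * v) : π = π' ∧ t = t' := by
  have key : ∀ i j, u.1 i j * t j = t' i * v.1 (π' i) (π j) := fun i j => by
    have := congrArg (fun x : GL (Fin n) F => x.1 i (π j)) h
    simpa [Units.val_mul, mul_mon_apply, mon_mul_apply] using this
  have hle : ∀ i, π' i ≤ π i := fun i => le_of_not_gt fun hl => by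
    have := key i i
    rw [uni_diag hu, uni_low hv hl, one_mul, mul_zero] at this
    exact (t i).ne_zero this
  have hπ : π = π' := by
    refine Equiv.ext fun i => Fin.ext ?_
    have hs : ∑ i, (π' i).val = ∑ i, (π i).val := by
      rw [Equiv.sum_comp π' (fun k : Fin n => k.val), Equiv.sum_comp π (fun k : Fin n => k.val)]
    exact ((Finset.sum_eq_sum_iff_of_le (f := fun i => (π' i).val) (g := fun i => (π i).val)
      fun i _ => (hle i : (π' i).val ≤ (π i).val)).mp hs i (Finset.mem_univ _)).symm
  subst hπ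
  refine ⟨rfl, funext fun i => Units.ext ?_⟩
  have := key i i
  rwa [uni_diag hu, uni_diag hv, one_mul, mul_one] at this

/-- The combinatorial condition for a monomial matrix to support the Gelfand–Graev Hecke algebra. -/
def Sup (π : Equiv.Perm (Fin n)) (t : Fin n → Fˣ) : Prop :=
  (∀ i j : Fin n, i.val + 1 = j.val → π i < π j → (π i).val + 1 = (π j).val ∧ t i = t j) ∧
    ∀ a b : Fin n, a < b → (π a).val + 1 = (π b).val → a.val + 1 = b.val

theorem Sup.sd_eq {π : Equiv.Perm (Fin n)} {t : Fin n → Fˣ} (hs : Sup π t) {u v : GL (Fin n) F}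
    (hu : u ∈ Uni F n) (hv : v ∈ Uni F n) (h : u * mon π t = mon π t * v) : sd u.1 = sd v.1 := by
  have key : ∀ i j, u.1 i j * t j = t i * v.1 (π i) (π j) := fun i j => by
    have := congrArg (fun x : GL (Fin n) F => x.1 i (π j)) h
    simpa [Units.val_mul, mul_mon_apply, mon_mul_apply] using this
  rw [sd, sd, ← Equiv.sum_comp π (fun i => ∑ j, if i.val + 1 = j.val then v.1 i j else 0)]
  refine Finset.sum_congr rfl fun i _ => ?_
  rw [← Equiv.sum_comp π (fun j => if (π i).val + 1 = j.val then v.1 (π i) j else 0)]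
  refine Finset.sum_congr rfl fun j _ => ?_
  by_cases h1 : i.val + 1 = j.val
  · rw [if_pos h1]
    rcases lt_trichotomy (π i) (π j) with hl | he | hg
    · obtain ⟨h2, h3⟩ := hs.1 i j h1 hl
      rw [if_pos h2]
      have := key i j
      rw [h3, mul_comm] at this
      exact mul_left_cancel₀ (t j).ne_zero this
    · rw [π.injective he] at h1; omega
    · have := key i j
      rw [uni_low hv hg, mul_zero] at this
      rw [(mul_eq_zero.mp this).resolve_right (t j).ne_zero, if_neg]
      rw [Fin.lt_def] at hg; omega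
  · rw [if_neg h1]
    split
    · next h2 =>
      rcases lt_trichotomy i j with hl | he | hg
      · exact absurd (hs.2 i j hl h2) h1
      · rw [he] at h2; omega
      · have := key i j
        rw [uni_low hu hg, zero_mul] at this
        exact ((mul_eq_zero.mp this.symm).resolve_left (t i).ne_zero).symm
    · rfl

theorem exists_of_not_sup {π : Equiv.Perm (Fin n)} {t : Fin n → Fˣ} (hs : ¬ Sup π t) (w : F) :
    ∃ u ∈ Uni F n, ∃ v ∈ Uni F n, u * mon π t = mon π t * v ∧ sd u.1 - sd v.1 = w := by
  rw [Sup, not_and_or] at hs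
  push Not at hs
  rcases hs with ⟨i, j, hij, hlt, hne⟩ | ⟨a, b, hab, hc, hne⟩
  · have hl : i < j := by rw [Fin.lt_def]; omega
    by_cases hc : (π i).val + 1 = (π j).val
    · have htne : (t j : F) / t i ≠ 1 := fun e => hne hc (Units.ext (div_eq_one_iff_eq (t i).ne_zero |>.mp e).symm)
      refine ⟨_, tv_mem i j hl (w / (1 - t j / t i)), _, tv_mem (π i) (π j) hlt _, tv_mul_mon π t i j hl.ne _, ?_⟩
      rw [sd_tv, sd_tv, if_pos hij, if_pos hc]
      have : (1 : F) - t j / t i ≠ 0 := sub_ne_zero.mpr htne.symm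
      field_simp
      exact mul_div_cancel_right₀ w (sub_ne_zero.mpr fun e => htne (by rw [e, div_self (t j).ne_zero]))
    · refine ⟨_, tv_mem i j hl w, _, tv_mem (π i) (π j) hlt _, tv_mul_mon π t i j hl.ne _, ?_⟩
      rw [sd_tv, sd_tv, if_pos hij, if_neg hc, sub_zero]
  · refine ⟨_, tv_mem a b hab (-w * t a / t b), _, tv_mem (π a) (π b) (by rw [Fin.lt_def]; omega) _,
      tv_mul_mon π t a b hab.ne _, ?_⟩
    rw [sd_tv, sd_tv, if_neg hne, if_pos hc]
    have := (t a).ne_zero
    have := (t b).ne_zero
    field_simp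
    ring

/-- The anti-automorphism fixing the superdiagonal sum. -/
def flip (g : GL (Fin n) F) : GL (Fin n) F where
  val := g.1.transpose.submatrix Fin.revPerm Fin.revPerm
  inv := g⁻¹.1.transpose.submatrix Fin.revPerm Fin.revPerm
  val_inv := by rw [Matrix.submatrix_mul_equiv, ← Matrix.transpose_mul, ← Units.val_mul, inv_mul_cancel]; simp
  inv_val := by rw [Matrix.submatrix_mul_equiv, ← Matrix.transpose_mul, ← Units.val_mul, mul_inv_cancel]; simp

theorem flip_apply (g : GL (Fin n) F) (i j : Fin n) : (flip g).1 i j = g.1 j.rev i.rev := rfl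

theorem flip_mul (g h : GL (Fin n) F) : flip (g * h) = flip h * flip g := by
  refine Units.ext ?_
  show (g.1 * h.1).transpose.submatrix Fin.revPerm Fin.revPerm =
    h.1.transpose.submatrix Fin.revPerm Fin.revPerm * g.1.transpose.submatrix Fin.revPerm Fin.revPerm
  rw [Matrix.submatrix_mul_equiv, Matrix.transpose_mul]

theorem flip_flip (g : GL (Fin n) F) : flip (flip g) = g :=
  Units.ext (Matrix.ext fun i j => by rw [flip_apply, flip_apply, Fin.rev_rev, Fin.rev_rev])

theorem flip_mem {u : GL (Fin n) F} (hu : u ∈ Uni F n) : flip u ∈ Uni F n := fun i j hij => by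
  rw [flip_apply, hu _ _ (Fin.rev_le_rev.mpr hij), Matrix.one_apply, Matrix.one_apply]
  simp only [Fin.rev_inj, eq_comm]

theorem sd_flip (u : GL (Fin n) F) : sd (flip u).1 = sd u.1 := by
  rw [sd, sd, Finset.sum_comm, ← Equiv.sum_comp Fin.revPerm]
  refine Finset.sum_congr rfl fun i _ => ?_
  rw [← Equiv.sum_comp Fin.revPerm]
  refine Finset.sum_congr rfl fun j _ => ?_
  simp only [Fin.revPerm_apply, flip_apply, Fin.rev_rev]
  refine if_congr ?_ rfl rfl
  simp only [Fin.val_rev]; omega

theorem exists_flip_mon (π : Equiv.Perm (Fin n)) (t : Fin n → Fˣ) :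
    ∃ π' t', flip (mon π t : GL (Fin n) F) = mon π' t' := by
  refine ⟨Fin.revPerm.trans (π.symm.trans Fin.revPerm), fun i => t (π.symm i.rev),
    Units.ext (Matrix.ext fun i j => ?_)⟩
  rw [flip_apply, mon_apply, mon_apply]
  simp only [Equiv.trans_apply, Fin.revPerm_apply]
  by_cases h : π j.rev = i.rev
  · rw [if_pos h, ← h, Equiv.symm_apply_apply, Fin.rev_rev, if_pos rfl]
  · rw [if_neg h, if_neg]
    intro h'
    exact h (by rw [← h', Fin.rev_rev, Equiv.apply_symm_apply])

section Structure

variable {π : Equiv.Perm (Fin n)} {t : Fin n → Fˣ}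

/-- `k` begins an increasing run. -/
def IsStart (π : Equiv.Perm (Fin n)) (k : ℕ) : Prop :=
  ∀ i j : Fin n, i.val + 1 = j.val → j.val = k → π j < π i

theorem Sup.lt_of_start (hs : Sup π t) {k : ℕ} (hk : IsStart π k) {j : Fin n} (hj : k ≤ j.val) :
    (π j).val + k < n := by
  classical
  have down : ∀ d : ℕ, ∀ c : Fin n, c.val + d = (π j).val → k ≤ (π.symm c).val := by
    intro d
    induction d with
    | zero => intro c hc; rw [show c = π j from Fin.ext (by omega), Equiv.symm_apply_apply]; exact hj
    | succ d ih =>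
      intro c hc
      by_contra hlt
      have hc1 : c.val + 1 < n := by have := (π j).isLt; omega
      have h1 := ih ⟨c.val + 1, hc1⟩ (show c.val + 1 + d = _ by omega)
      have h2 : (π.symm c).val + 1 = (π.symm ⟨c.val + 1, hc1⟩).val := by
        refine hs.2 _ _ (by rw [Fin.lt_def]; omega) ?_
        rw [Equiv.apply_symm_apply, Equiv.apply_symm_apply]
      have h3 := hk _ _ h2 (by omega)
      rw [Equiv.apply_symm_apply, Equiv.apply_symm_apply, Fin.lt_def] at h3
      simp at h3
  have hsub : (Finset.Iic (π j)).map π.symm.toEmbedding ⊆ Finset.Ici (⟨k, hj.trans_lt j.isLt⟩ : Fin n) := by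
    intro x hx
    simp only [Finset.mem_map, Finset.mem_Iic] at hx
    obtain ⟨c, hc, rfl⟩ := hx
    rw [Finset.mem_Ici, Fin.le_def]
    exact down ((π j).val - c.val) c (by rw [Fin.le_def] at hc; omega)
  have := Finset.card_le_card hsub
  rw [Finset.card_map, Fin.card_Iic, Fin.card_Ici] at this
  simp only at this
  omega

/-- A supported monomial matrix is fixed by the anti-automorphism. -/
theorem Sup.flip_mon (hs : Sup π t) : flip (mon π t : GL (Fin n) F) = mon π t := by
  classical
  have key : ∀ i : Fin n, π (π i).rev = i.rev ∧ t (π i).rev = t i := by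
    intro i
    have hn : i.val < n := i.isLt
    let A : ℕ → Prop := fun k => ∃ (hk : k + 1 < n), π ⟨k, by omega⟩ < π ⟨k + 1, hk⟩
    have hex : ∃ m, i.val ≤ m ∧ ¬ A m := ⟨n - 1, by omega, fun ⟨h, _⟩ => by omega⟩
    let R := Nat.find hex
    obtain ⟨hiR, hAR⟩ := Nat.find_spec hex
    let L := Nat.findGreatest (fun m => m = 0 ∨ ¬ A (m - 1)) i.val
    have hLi : L ≤ i.val := Nat.findGreatest_le _
    have hLs : L = 0 ∨ ¬ A (L - 1) :=
      Nat.findGreatest_spec (P := fun m => m = 0 ∨ ¬ A (m - 1)) (Nat.zero_le i.val) (Or.inl rfl)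
    have hRn : R < n := by
      have : R ≤ n - 1 := Nat.find_min' hex ⟨by omega, fun ⟨h, _⟩ => by omega⟩
      omega
    have hA : ∀ k, L ≤ k → k < R → A k := by
      intro k h1 h2
      by_contra hk
      by_cases h3 : i.val ≤ k
      · exact absurd (Nat.find_min' hex ⟨h3, hk⟩) (by omega)
      · have := Nat.le_findGreatest (P := fun m => m = 0 ∨ ¬ A (m - 1)) (m := k + 1) (n := i.val)
          (by omega) (Or.inr (by simpa using hk))
        omega
    have run : ∀ d, ∀ x : Fin n, x.val = L + d → L + d ≤ R →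
        (π x).val = (π ⟨L, by omega⟩).val + d ∧ t x = t ⟨L, by omega⟩ := by
      intro d
      induction d with
      | zero => intro x hx _; rw [show x = ⟨L, by omega⟩ from Fin.ext hx]; exact ⟨rfl, rfl⟩
      | succ d ih =>
        intro x hx hd
        obtain ⟨h1, h2⟩ := ih ⟨L + d, by omega⟩ rfl (by omega)
        obtain ⟨hk, hlt⟩ := hA (L + d) (by omega) (by omega)
        obtain ⟨h3, h4⟩ := hs.1 ⟨L + d, by omega⟩ ⟨L + d + 1, hk⟩ rfl hlt
        rw [show x = ⟨L + d + 1, hk⟩ from Fin.ext hx]
        exact ⟨by omega, h4.symm.trans h2⟩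
    have hstart : ∀ k, (k = 0 ∨ ¬ A (k - 1)) → IsStart π k := by
      intro k hk a b hab hbk
      rcases hk with hk | hk
      · omega
      · rcases lt_trichotomy (π a) (π b) with h | h | h
        · exfalso
          refine hk ⟨by omega, ?_⟩
          rw [show (⟨k - 1, by omega⟩ : Fin n) = a from Fin.ext (by simp only; omega),
            show (⟨k - 1 + 1, by omega⟩ : Fin n) = b from Fin.ext (by simp only; omega)]
          exact h
        · rw [π.injective h] at hab; omega
        · exact h
    have hS := fun x => hs.lt_of_start (hstart L hLs) (j := x)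
    have hT := fun x => hs.lt_of_start (hstart (R + 1) (Or.inr (by simpa using hAR))) (j := x)
    have hπL : (π ⟨L, by omega⟩).val + (R - L) + L + 1 = n := by
      obtain ⟨z, hz⟩ := π.surjective ⟨n - L - 1, by omega⟩
      have hzv : (π z).val = n - L - 1 := congrArg Fin.val hz
      have hzR : z.val ≤ R := by
        by_contra h
        have := hT z (by omega)
        omega
      have hzL : L ≤ z.val := by
        by_contra h
        -- the values of the coordinates at and after `L` exhaust the small values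
        have hsub : ((Finset.Ici (⟨L, by omega⟩ : Fin n)).map π.toEmbedding) ⊆
            (Finset.Iic (π z)).erase (π z) := by
          intro y hy
          simp only [Finset.mem_map, Finset.mem_Ici] at hy
          obtain ⟨x, hx, rfl⟩ := hy
          rw [Finset.mem_erase, Finset.mem_Iic, Fin.le_def]
          have := hS x hx
          refine ⟨fun e => ?_, by simp only [Equiv.coe_toEmbedding]; omega⟩
          have e' := π.injective e
          rw [e', Fin.le_def] at hx
          simp only at hx; omega
        have := Finset.card_le_card hsub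
        rw [Finset.card_map, Finset.card_erase_of_mem (Finset.mem_Iic.mpr le_rfl), Fin.card_Iic,
          Fin.card_Ici] at this
        simp only at this
        omega
      obtain ⟨h1, -⟩ := run (z.val - L) z (by omega) (by omega)
      obtain ⟨h2, -⟩ := run (R - L) ⟨R, hRn⟩ (show R = _ by omega) (by omega)
      have := hS ⟨R, hRn⟩ (show L ≤ R by omega)
      omega
    obtain ⟨hi1, hi2⟩ := run (i.val - L) i (by omega) (by omega)
    have hr : (π i).rev.val = L + (R - i.val) := by rw [Fin.val_rev]; omega
    obtain ⟨hj1, hj2⟩ := run (R - i.val) (π i).rev hr (by omega)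
    exact ⟨Fin.ext (by rw [Fin.val_rev]; omega), hj2.trans hi2.symm⟩
  refine Units.ext (Matrix.ext fun i j => ?_)
  rw [flip_apply, mon_apply, mon_apply]
  by_cases h : π i = j
  · subst h; rw [if_pos (key i).1, if_pos rfl, (key i).2]
  · rw [if_neg h, if_neg]
    intro h'
    refine h (Fin.rev_injective (π.injective ?_))
    rw [(key i).1, h']

end Structure

section Count

/-- Insert a value in front. -/
def ins (p : Fin (n + 1)) (π : Equiv.Perm (Fin n)) : Equiv.Perm (Fin (n + 1)) :=
  (finSuccEquiv n).trans (π.optionCongr.trans (finSuccEquiv' p).symm)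

theorem ins_zero (p : Fin (n + 1)) (π : Equiv.Perm (Fin n)) : ins p π 0 = p := by simp [ins]

theorem ins_succ (p : Fin (n + 1)) (π : Equiv.Perm (Fin n)) (i : Fin n) :
    ins p π i.succ = p.succAbove (π i) := by simp [ins]

theorem ins_succ_val (p : Fin (n + 1)) (π : Equiv.Perm (Fin n)) (i : Fin n) :
    ((π i).val < p.val ∧ (ins p π i.succ).val = (π i).val) ∨
      (p.val ≤ (π i).val ∧ (ins p π i.succ).val = (π i).val + 1) := by
  rw [ins_succ]
  rcases lt_or_ge (π i).castSucc p with h | h
  · rw [Fin.succAbove_of_castSucc_lt _ _ h]; exact .inl ⟨h, rfl⟩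
  · rw [Fin.succAbove_of_le_castSucc _ _ h]; exact .inr ⟨h, rfl⟩

/-- Supported monomial matrices. -/
abbrev Supp2 (F : Type*) [Field F] [Fintype F] [DecidableEq F] (n : ℕ) :=
  {x : Equiv.Perm (Fin n) × (Fin n → Fˣ) // Sup x.1 x.2}

/-- The entry put in front. -/
def newP (o : Option Fˣ) (π : Equiv.Perm (Fin (n + 1))) : Fin (n + 2) :=
  match o with
  | none => (π 0).castSucc
  | some _ => Fin.last (n + 1)

/-- The coefficient put in front. -/
def newT (o : Option Fˣ) (t : Fin (n + 1) → Fˣ) : Fˣ := o.getD (t 0)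

theorem sup_ins {π : Equiv.Perm (Fin (n + 1))} {t : Fin (n + 1) → Fˣ} (hs : Sup π t) (o : Option Fˣ) :
    Sup (ins (newP o π) π) (Fin.cons (newT o t) t : Fin (n + 2) → Fˣ) := by
  have hp : ((newP o π).val = (π 0).val ∧ o = none) ∨ (newP o π).val = n + 1 := by
    cases o <;> simp [newP]
  constructor
  · intro i j hij hlt
    rw [Fin.lt_def] at hlt
    obtain ⟨j', rfl⟩ := Fin.exists_succ_eq.mpr (show j ≠ 0 by intro h; rw [h] at hij; simp at hij)
    rw [Fin.val_succ] at hij
    have hj' := ins_succ_val (newP o π) π j'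
    rcases Fin.eq_zero_or_eq_succ i with rfl | ⟨i', rfl⟩
    · rw [ins_zero] at hlt ⊢
      have : j' = 0 := Fin.ext (by simp at hij ⊢; omega)
      subst this
      rcases hp with ⟨hp, rfl⟩ | hp
      · exact ⟨by omega, by simp [newT]⟩
      · have := (ins (newP o π) π (0 : Fin (n + 1)).succ).isLt
        omega
    · rw [Fin.val_succ] at hij
      have hi' := ins_succ_val (newP o π) π i'
      obtain ⟨h1, h2⟩ := hs.1 i' j' (by omega) (by rw [Fin.lt_def]; omega)
      have hne : (π j').val ≠ (π 0).val := fun e => by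
        rw [π.injective (Fin.ext e)] at hij; simp at hij
      refine ⟨?_, by simpa using h2⟩
      have := (π j').isLt
      rcases hp with ⟨hp, -⟩ | hp <;> omega
  · intro a b hab hc
    rw [Fin.lt_def] at hab
    obtain ⟨b', rfl⟩ := Fin.exists_succ_eq.mpr (show b ≠ 0 by intro h; rw [h] at hab; simp at hab)
    have hb' := ins_succ_val (newP o π) π b'
    rcases Fin.eq_zero_or_eq_succ a with rfl | ⟨a', rfl⟩
    · rw [ins_zero] at hc
      rcases hp with ⟨hp, -⟩ | hp
      · have : b' = 0 := π.injective (Fin.ext (by omega))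
        subst this; simp
      · have := (π b').isLt
        omega
    · rw [Fin.val_succ, Fin.val_succ] at hab ⊢
      have ha' := ins_succ_val (newP o π) π a'
      have := hs.2 a' b' (by rw [Fin.lt_def]; omega) (by omega)
      omega

/-- Extension by one coordinate. -/
def grow (x : Option Fˣ × Supp2 F (n + 1)) : Supp2 F (n + 2) :=
  ⟨(ins (newP x.1 x.2.1.1) x.2.1.1, Fin.cons (newT x.1 x.2.1.2) x.2.1.2), sup_ins x.2.2 x.1⟩

theorem grow_bijective : Function.Bijective (grow (F := F) (n := n)) := by
  constructor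
  · rintro ⟨o, ⟨π, t⟩, hs⟩ ⟨o', ⟨π', t'⟩, hs'⟩ h
    simp only [grow, Subtype.mk.injEq, Prod.mk.injEq] at h
    obtain ⟨h1, h2⟩ := h
    obtain ⟨h3, rfl⟩ := Fin.cons_injective2 h2
    have hp : newP o π = newP o' π' := by rw [← ins_zero (newP o π) π, h1, ins_zero]
    have : π = π' := Equiv.ext fun i => by
      have := congrArg (fun e : Equiv.Perm (Fin (n + 2)) => e i.succ) h1
      simp only [ins_succ, ← hp] at this
      exact Fin.succAbove_right_injective this
    subst this
    have : o = o' := by
      rcases o with _ | c <;> rcases o' with _ | c' <;> simp_all [newP, newT]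
      exact absurd hp (Fin.castSucc_lt_last _).ne'
    subst this
    rfl
  · rintro ⟨⟨π, t⟩, hs⟩
    replace hs : Sup π t := hs
    have hne : ∀ i : Fin (n + 1), π i.succ ≠ π 0 := fun i h => Fin.succ_ne_zero i (π.injective h)
    choose f hf using fun i => Fin.exists_succAbove_eq (hne i)
    have hfi : Function.Injective f := fun i j h => Fin.succ_injective _ (π.injective (by rw [← hf, ← hf, h]))
    let π' : Equiv.Perm (Fin (n + 1)) := Equiv.ofBijective f (Finite.injective_iff_bijective.mp hfi)
    have hπ : ins (π 0) π' = π := Equiv.ext fun i => by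
      rcases Fin.eq_zero_or_eq_succ i with rfl | ⟨i, rfl⟩
      · exact ins_zero _ _
      · rw [ins_succ]; exact hf i
    have hv := ins_succ_val (π 0) π'
    simp only [hπ] at hv
    have hs' : Sup π' (t ∘ Fin.succ) := by
      constructor
      · intro i j hij hlt
        rw [Fin.lt_def] at hlt
        have h1 := hv i
        have h2 := hv j
        obtain ⟨h3, h4⟩ := hs.1 i.succ j.succ (by simp; omega) (by rw [Fin.lt_def]; omega)
        exact ⟨by omega, h4⟩
      · intro a b hab hc
        rw [Fin.lt_def] at hab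
        have h1 := hv a
        have h2 := hv b
        by_cases hc' : (π a.succ).val + 1 = (π b.succ).val
        · have := hs.2 a.succ b.succ (Fin.succ_lt_succ_iff.mpr (Fin.lt_def.mpr hab)) hc'
          rw [Fin.val_succ, Fin.val_succ] at this; omega
        · have := hs.2 0 b.succ (Fin.succ_pos b) (by omega)
          rw [Fin.val_zero, Fin.val_succ] at this; omega
    have ht : (Fin.cons (t 0) (t ∘ Fin.succ) : Fin (n + 2) → Fˣ) = t := Fin.cons_self_tail t
    rcases lt_trichotomy (π 0) (π (0 : Fin (n + 1)).succ) with hlt | heq | hgt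
    · obtain ⟨h1, h2⟩ := hs.1 0 _ (by simp) hlt
      refine ⟨(none, ⟨(π', t ∘ Fin.succ), hs'⟩), Subtype.ext ?_⟩
      have hp : (π' 0).castSucc = π 0 := Fin.ext (by have := hv 0; simp; omega)
      simp only [grow, newP, newT, hp, hπ, Option.getD_none, Function.comp_apply, Prod.mk.injEq, true_and]
      exact (by rw [← h2]; exact ht)
    · exact absurd heq.symm (hne 0)
    · refine ⟨(some (t 0), ⟨(π', t ∘ Fin.succ), hs'⟩), Subtype.ext ?_⟩
      have hp : Fin.last (n + 1) = π 0 := by
        by_contra hne'
        have hl : (π 0).val + 1 < n + 2 := by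
          have := Fin.val_lt_last (Ne.symm hne')
          omega
        obtain ⟨b, hb⟩ := π.surjective ⟨(π 0).val + 1, hl⟩
        have hb' : (π b).val = (π 0).val + 1 := congrArg Fin.val hb
        have h0 : (0 : Fin (n + 2)) < b := Fin.pos_iff_ne_zero.mpr fun e => by rw [e] at hb'; omega
        have := hs.2 0 b h0 hb'.symm
        have : b = (0 : Fin (n + 1)).succ := Fin.ext (by simp at this ⊢; omega)
        subst this
        rw [Fin.lt_def] at hgt
        omega
      simp only [grow, newP, newT, hp, hπ, Option.getD_some, Prod.mk.injEq, true_and]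
      exact ht

theorem card_supp2 : ∀ n : ℕ, Nat.card (Supp2 F (n + 1)) = Fintype.card F ^ (n + 1) - Fintype.card F ^ n := by
  intro n
  induction n with
  | zero =>
    have e : Supp2 F 1 ≃ Fˣ :=
      { toFun := fun x => x.1.2 0
        invFun := fun c => ⟨(1, fun _ => c), ⟨fun i j h => by omega, fun a b h => by omega⟩⟩
        left_inv := fun x => Subtype.ext (Prod.ext (Subsingleton.elim _ _)
          (funext fun i => by rw [Subsingleton.elim i 0]))
        right_inv := fun c => rfl }
    rw [Nat.card_congr e, Nat.card_eq_fintype_card, Fintype.card_units, pow_one, pow_zero]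
  | succ n ih =>
    rw [← Nat.card_eq_of_bijective _ (grow_bijective (F := F) (n := n)), Nat.card_prod, ih,
      Nat.card_eq_fintype_card, Fintype.card_option, Fintype.card_units,
      Nat.sub_add_cancel Fintype.card_pos, Nat.mul_sub, ← pow_succ', ← pow_succ']

end Count

end CfsgLib.GLCusp
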