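/-
The Gelfand–Graev character of GL_n: multiplicity one, its norm, degrees of cuspidal characters, and its pairing
with parabolically induced functions.
-/
import Cfsg.Agent.Lib.GLCusp.Mackey
import Cfsg.Agent.Lib.GLCusp.Mon

set_option autoImplicit false

namespace CfsgLib.GLCusp

open Cfsg CfsgLib.CharTheory Matrix
open scoped BigOperators ComplexConjugate Classical

noncomputable section

variable {F : Type*} [Field F] [Fintype F] [DecidableEq F] {n : ℕ}

theorem exists_addChar (F : Type*) [Field F] [Fintype F] : ∃ ψ : AddChar F ℂ, ∃ w : F, ψ w ≠ 1 := by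
  have h := AddChar.FiniteField.primitiveChar_to_Complex_isPrimitive F (one_ne_zero (α := F))
  rw [AddChar.mulShift_one] at h
  exact ⟨_, AddChar.ne_one_iff.mp h⟩

/-- A fixed nontrivial additive character. -/
def ψ0 (F : Type*) [Field F] [Fintype F] : AddChar F ℂ := (exists_addChar F).choose

theorem ψ0_ne (F : Type*) [Field F] [Fintype F] : ∃ w : F, ψ0 F w ≠ 1 := (exists_addChar F).choose_spec

theorem ψ0_mul_conj (x y : F) : ψ0 F x * conj (ψ0 F y) = ψ0 F (x - y) := by
  rw [← AddChar.map_neg_eq_conj, ← AddChar.map_add_eq_mul, sub_eq_add_neg]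

theorem sum_ψ0_dot {ι : Type*} [Fintype ι] [DecidableEq ι] {v : ι → F} :
    ∑ a : ι → F, ψ0 F (-∑ i, a i * v i) = if v = 0 then (Fintype.card F : ℂ) ^ Fintype.card ι else 0 := by
  split
  · next h => subst h; simp
  · next h =>
    obtain ⟨i, hi⟩ := Function.ne_iff.mp h
    obtain ⟨w, hw⟩ := ψ0_ne F
    let a0 : ι → F := Pi.single i (-w / v i)
    have h0 : -∑ j, a0 j * v j = w := by
      rw [Finset.sum_eq_single i (fun j _ hj => by simp [a0, Pi.single_eq_of_ne hj]) (by simp)]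
      simp only [a0, Pi.single_eq_same]
      rw [div_mul_cancel₀ _ hi, neg_neg]
    have key : ψ0 F w * ∑ a : ι → F, ψ0 F (-∑ j, a j * v j) = ∑ a : ι → F, ψ0 F (-∑ j, a j * v j) := by
      rw [Finset.mul_sum]
      refine Fintype.sum_equiv (Equiv.addLeft a0) _ _ fun a => ?_
      rw [← AddChar.map_add_eq_mul, Equiv.coe_addLeft]
      congr 1
      simp only [Pi.add_apply, add_mul, Finset.sum_add_distrib, neg_add, h0]
    by_contra hne
    exact hw (by simpa [hne] using key)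

/-- The Gelfand–Graev linear character. -/
def ψU (F : Type*) [Field F] [Fintype F] [DecidableEq F] (n : ℕ) : Uni F n → ℂ := fun u => ψ0 F (sd u.1.1)

theorem ψU_mul (u v : Uni F n) : ψU F n (u * v) = ψU F n u * ψU F n v := by
  rw [ψU, ψU, ψU, ← AddChar.map_add_eq_mul, ← sd_mul u.2 v.2]; rfl

theorem ψU_one : ψU F n 1 = 1 := by
  rw [ψU]; show ψ0 F (sd (1 : Matrix (Fin n) (Fin n) F)) = 1
  rw [sd_one, AddChar.map_zero_eq_one]

theorem isClassFunction_ψU : IsClassFunction (Uni F n) (ψU F n) := fun g h => by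
  have h1 : ψU F n h * ψU F n h⁻¹ = 1 := by rw [← ψU_mul, mul_inv_cancel, ψU_one]
  rw [ψU_mul, ψU_mul, mul_comm (ψU F n h) (ψU F n g), mul_assoc, h1, mul_one]

theorem isCharacter_ψU : IsCharacter (Uni F n) (ψU F n) := by
  let φ : Uni F n →* ℂ :=
    { toFun := ψU F n, map_one' := ψU_one, map_mul' := ψU_mul }
  exact isCharacter_of_irr (isIrrCharacter_linear φ.toHomUnits)

theorem conj_ψU (u : Uni F n) : conj (ψU F n u) = ψU F n u⁻¹ := by
  have h1 : ψU F n u * conj (ψU F n u) = 1 := by rw [ψU, ψ0_mul_conj, sub_self, AddChar.map_zero_eq_one]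
  have h2 : ψU F n u⁻¹ * ψU F n u = 1 := by rw [← ψU_mul, inv_mul_cancel, ψU_one]
  exact (left_inv_eq_right_inv h2 h1).symm

/-- The Gelfand–Graev character. -/
def Γ (F : Type*) [Field F] [Fintype F] [DecidableEq F] (n : ℕ) : GL (Fin n) F → ℂ := indFun (Uni F n) (ψU F n)

theorem isCharacter_Γ : IsCharacter _ (Γ F n) := isCharacter_indFun _ isCharacter_ψU

theorem inner_Γ {χ : GL (Fin n) F → ℂ} (hχ : IsClassFunction _ χ) :
    classInner χ (Γ F n) = (Nat.card (Uni F n) : ℂ)⁻¹ * ∑ u : Uni F n, χ u * conj (ψU F n u) := by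
  rw [Γ, frobenius_reciprocity' _ _ hχ]; rfl

theorem ext_ψU (x : GL (Fin n) F) :
    extendByZero (Uni F n) (ψU F n) x = if x ∈ Uni F n then ψ0 F (sd x.1) else 0 := by
  split
  · next h => rw [extendByZero_of_mem _ _ h]; rfl
  · next h => rw [extendByZero_of_not_mem _ _ h]

/-! ### Multiplicity one -/

section MultOne

variable {d : ℕ} (ρ : Representation ℂ (GL (Fin n) F) (Fin d → ℂ))

/-- The unnormalised projector onto the Gelfand–Graev eigenspace. -/
def E : Module.End ℂ (Fin d → ℂ) := ∑ u : Uni F n, conj (ψU F n u) • ρ u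

theorem rho_mul_E (u : Uni F n) : ρ u * E ρ = ψU F n u • E ρ := by
  simp only [E, Finset.mul_sum, Finset.smul_sum, mul_smul_comm, smul_smul]
  refine Fintype.sum_equiv (Equiv.mulLeft u) _ _ fun x => ?_
  rw [Equiv.coe_mulLeft, Subgroup.coe_mul, ψU_mul, map_mul ρ, map_mul (starRingEnd ℂ), ← mul_assoc,
    conj_ψU u, ← ψU_mul, mul_inv_cancel, ψU_one, one_mul]

theorem E_mul_rho (u : Uni F n) : E ρ * ρ u = ψU F n u • E ρ := by
  simp only [E, Finset.sum_mul, Finset.smul_sum, smul_mul_assoc, smul_smul]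
  refine Fintype.sum_equiv (Equiv.mulRight u) _ _ fun x => ?_
  rw [Equiv.coe_mulRight, Subgroup.coe_mul, ψU_mul, map_mul ρ, map_mul (starRingEnd ℂ), mul_left_comm,
    conj_ψU u, ← ψU_mul, mul_inv_cancel, ψU_one, mul_one]

theorem E_mul_E : E ρ * E ρ = (Fintype.card (Uni F n) : ℂ) • E ρ := by
  calc E ρ * E ρ = ∑ u : Uni F n, E ρ * (conj (ψU F n u) • ρ u) := Finset.mul_sum _ _ _
    _ = ∑ _u : Uni F n, E ρ := Finset.sum_congr rfl fun u _ => by
        rw [mul_smul_comm, E_mul_rho, smul_smul, conj_ψU, ← ψU_mul, inv_mul_cancel, ψU_one, one_smul]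
    _ = _ := by rw [Finset.sum_const, Finset.card_univ, Nat.cast_smul_eq_nsmul]

/-- The Hecke operators. -/
def A (g : GL (Fin n) F) : Module.End ℂ (Fin d → ℂ) := E ρ * ρ g * E ρ

theorem A_left (u : Uni F n) (g : GL (Fin n) F) : A ρ (u * g) = ψU F n u • A ρ g := by
  rw [A, A, map_mul, ← mul_assoc, E_mul_rho, smul_mul_assoc, smul_mul_assoc]

theorem A_right (g : GL (Fin n) F) (u : Uni F n) : A ρ (g * u) = ψU F n u • A ρ g := by
  rw [A, A, map_mul, mul_assoc, mul_assoc, rho_mul_E, mul_smul_comm, mul_smul_comm, mul_assoc]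

theorem A_flip (g : GL (Fin n) F) : A ρ (flip g) = A ρ g := by
  obtain ⟨u, hu, π, t, v, hv, rfl⟩ := exists_decomp g
  have hz : ∀ (π : Equiv.Perm (Fin n)) (t : Fin n → Fˣ), ¬ Sup π t → A ρ (mon π t) = 0 := by
    intro π t hs
    obtain ⟨w, hw⟩ := ψ0_ne F
    obtain ⟨a, ha, b, hb, hab, hd⟩ := exists_of_not_sup hs w
    have e1 := A_left ρ ⟨a, ha⟩ (mon π t)
    have e2 := A_right ρ (mon π t) ⟨b, hb⟩
    simp only at e1 e2
    rw [hab] at e1
    by_contra hA
    refine hw ?_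
    have h0 : ψU F n ⟨a, ha⟩ = ψU F n ⟨b, hb⟩ := smul_left_injective ℂ hA (e1.symm.trans e2)
    rw [← hd, ← ψ0_mul_conj]
    have : ψU F n ⟨b, hb⟩ * conj (ψU F n ⟨b, hb⟩) = 1 := by
      rw [ψU, ψ0_mul_conj, sub_self, AddChar.map_zero_eq_one]
    exact (congrArg (fun z => z * conj (ψU F n ⟨b, hb⟩)) h0).trans this
  rw [flip_mul, flip_mul, mul_assoc u]
  by_cases hs : Sup π t
  · rw [hs.flip_mon]
    have e1 := A_left ρ ⟨flip v, flip_mem hv⟩ (mon π t * flip u)
    have e2 := A_right ρ (mon π t) ⟨flip u, flip_mem hu⟩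
    have e3 := A_left ρ ⟨u, hu⟩ (mon π t * v)
    have e4 := A_right ρ (mon π t) ⟨v, hv⟩
    simp only at e1 e2 e3 e4
    rw [e1, e2, e3, e4, smul_smul, smul_smul, mul_comm]
    simp only [ψU, sd_flip]
  · obtain ⟨π', t', h'⟩ := exists_flip_mon π t
    have hs' : ¬ Sup π' t' := fun hs' => hs <| by
      have := hs'.flip_mon
      rw [← h', flip_flip] at this
      have h2 : mon π t = mon π' t' := this.trans h'
      obtain ⟨rfl, rfl⟩ := mon_unique (Subgroup.one_mem _) (Subgroup.one_mem _) (show 1 * mon π t = mon π' t' * 1 by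
        rw [one_mul, mul_one, h2])
      exact hs'
    rw [h']
    have e1 := A_left ρ ⟨flip v, flip_mem hv⟩ (mon π' t' * flip u)
    have e2 := A_right ρ (mon π' t') ⟨flip u, flip_mem hu⟩
    have e3 := A_left ρ ⟨u, hu⟩ (mon π t * v)
    have e4 := A_right ρ (mon π t) ⟨v, hv⟩
    simp only at e1 e2 e3 e4
    rw [e1, e2, e3, e4, hz π t hs, hz π' t' hs']
    simp

theorem A_mul_A (g h : GL (Fin n) F) :
    A ρ g * A ρ h = (Fintype.card (Uni F n) : ℂ) • ∑ u : Uni F n, conj (ψU F n u) • A ρ (g * u * h) := by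
  calc A ρ g * A ρ h = E ρ * ρ g * (E ρ * E ρ) * (ρ h * E ρ) := by simp only [A, mul_assoc]
    _ = (Fintype.card (Uni F n) : ℂ) • (E ρ * ρ g * E ρ * (ρ h * E ρ)) := by
        rw [E_mul_E, mul_smul_comm, smul_mul_assoc]
    _ = _ := by
        congr 1
        conv_lhs => arg 1; arg 2; rw [E]
        simp only [Finset.mul_sum, Finset.sum_mul, mul_smul_comm, smul_mul_assoc, A, map_mul, mul_assoc]

theorem A_comm (g h : GL (Fin n) F) : A ρ g * A ρ h = A ρ h * A ρ g := by
  have key : ∀ g h, A ρ g * A ρ h = A ρ (flip h) * A ρ (flip g) := fun g h => by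
    rw [A_mul_A, A_mul_A]
    congr 1
    refine Fintype.sum_equiv
      ⟨fun u => ⟨flip u, flip_mem u.2⟩, fun u => ⟨flip u, flip_mem u.2⟩,
        fun u => Subtype.ext (flip_flip _), fun u => Subtype.ext (flip_flip _)⟩ _ _ fun u => ?_
    show _ = conj (ψU F n ⟨flip u.1, flip_mem u.2⟩) • A ρ (flip h * flip u.1 * flip g)
    rw [show ψU F n ⟨flip u.1, flip_mem u.2⟩ = ψU F n u from congrArg (ψ0 F) (sd_flip u.1),
      mul_assoc, ← flip_mul, ← flip_mul, A_flip]
  rw [key, A_flip, A_flip]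

variable [ρ.IsIrreducible]

theorem top_of_invariant (W : Submodule ℂ (Fin d → ℂ)) (hW : ∀ g : GL (Fin n) F, ∀ v ∈ W, ρ g v ∈ W)
    (h : W ≠ ⊥) : W = ⊤ := by
  rcases eq_bot_or_eq_top (⟨W, fun g v hv => hW g v hv⟩ : Subrepresentation ρ) with e | e
  · exact absurd (congrArg Subrepresentation.toSubmodule e) h
  · exact congrArg Subrepresentation.toSubmodule e

theorem twirl_scalar (hd : 0 < d) (X : Module.End ℂ (Fin d → ℂ)) :
    ∑ g : GL (Fin n) F, ρ g * X * ρ g⁻¹ =
      ((Fintype.card (GL (Fin n) F) : ℂ) * LinearMap.trace ℂ _ X / d) • 1 := by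
  haveI : Nonempty (Fin d) := ⟨⟨0, hd⟩⟩
  set T : Module.End ℂ (Fin d → ℂ) := ∑ g : GL (Fin n) F, ρ g * X * ρ g⁻¹ with hT
  have hc : ∀ k, ρ k * T = T * ρ k := fun k => by
    rw [hT, Finset.mul_sum, Finset.sum_mul]
    refine Fintype.sum_equiv (Equiv.mulLeft k) _ _ fun g => ?_
    rw [Equiv.coe_mulLeft, _root_.mul_inv_rev, map_mul, map_mul, mul_assoc (ρ k * ρ g * X),
      mul_assoc (ρ g⁻¹), ← map_mul ρ k⁻¹, inv_mul_cancel, map_one, mul_one]
    simp only [mul_assoc]
  obtain ⟨c, hc'⟩ := Module.End.exists_eigenvalue T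
  have htop := top_of_invariant ρ (T.eigenspace c) (fun g v hv => by
    rw [Module.End.mem_eigenspace_iff] at hv ⊢
    have := congrArg (fun f : Module.End ℂ (Fin d → ℂ) => f v) (hc g)
    simp only [Module.End.mul_apply, hv, map_smul] at this
    exact this.symm) hc'
  have hT' : T = c • 1 := LinearMap.ext fun v => by
    have : v ∈ T.eigenspace c := htop ▸ Submodule.mem_top
    simpa using Module.End.mem_eigenspace_iff.mp this
  have htr : LinearMap.trace ℂ _ T = (Fintype.card (GL (Fin n) F) : ℂ) * LinearMap.trace ℂ _ X := by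
    rw [hT, map_sum, ← nsmul_eq_mul, ← Finset.card_univ, ← Finset.sum_const]
    refine Finset.sum_congr rfl fun g _ => ?_
    rw [LinearMap.trace_mul_comm, ← mul_assoc, ← map_mul, inv_mul_cancel, map_one, one_mul]
  rw [hT', map_smul, LinearMap.trace_one, Module.finrank_pi, Fintype.card_fin, smul_eq_mul] at htr
  rw [hT', ← htr, mul_div_assoc, div_self (by exact_mod_cast hd.ne'), mul_one]

theorem twirl_scalar' (hd : 0 < d) (X : Module.End ℂ (Fin d → ℂ)) :
    ∑ g : GL (Fin n) F, ρ g⁻¹ * X * ρ g =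
      ((Fintype.card (GL (Fin n) F) : ℂ) * LinearMap.trace ℂ _ X / d) • 1 := by
  rw [← twirl_scalar ρ hd X]
  exact Fintype.sum_equiv (Equiv.inv _) _ _ fun g => by simp

theorem finrank_range_E : Module.finrank ℂ (LinearMap.range (E ρ)) ≤ 1 := by
  rcases Nat.eq_zero_or_pos d with rfl | hd
  · exact (Submodule.finrank_le _).trans (by simp)
  have hU : (Fintype.card (Uni F n) : ℂ) ≠ 0 := Nat.cast_ne_zero.mpr Fintype.card_ne_zero
  have hproj : LinearMap.IsProj (LinearMap.range (E ρ)) ((Fintype.card (Uni F n) : ℂ)⁻¹ • E ρ) := by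
    refine ⟨fun x => Submodule.smul_mem _ _ ⟨x, rfl⟩, ?_⟩
    rintro x ⟨y, rfl⟩
    rw [LinearMap.smul_apply, ← Module.End.mul_apply, E_mul_E, LinearMap.smul_apply, inv_smul_smul₀ hU]
  rcases eq_or_ne (E ρ) 0 with h0 | h0
  · rw [h0, LinearMap.range_zero, finrank_bot]; omega
  have htr : LinearMap.trace ℂ _ (E ρ) ≠ 0 := by
    intro ht
    have := hproj.trace
    rw [map_smul, ht, smul_zero] at this
    have h1 : Module.finrank ℂ (LinearMap.range (E ρ)) = 0 := by exact_mod_cast this.symm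
    exact h0 (LinearMap.range_eq_bot.mp (Submodule.finrank_eq_zero.mp h1))
  have hsc : ∀ h, ∃ c : ℂ, A ρ h = c • E ρ := by
    intro h
    set N := (Fintype.card (Uni F n) : ℂ) with hN
    set lam := (Fintype.card (GL (Fin n) F) : ℂ) * LinearMap.trace ℂ _ (E ρ) / d with hl
    have hl0 : lam ≠ 0 := div_ne_zero (mul_ne_zero (Nat.cast_ne_zero.mpr Fintype.card_ne_zero) htr)
      (by exact_mod_cast hd.ne')
    set mu := (Fintype.card (GL (Fin n) F) : ℂ) * LinearMap.trace ℂ _ (ρ h * E ρ) / d with hm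
    have e1 : ∑ g : GL (Fin n) F, A ρ g * A ρ (g⁻¹ * h) = (N * lam) • A ρ h := by
      calc ∑ g : GL (Fin n) F, A ρ g * A ρ (g⁻¹ * h)
          = ∑ g : GL (Fin n) F, N • (E ρ * (ρ g * E ρ * ρ g⁻¹) * (ρ h * E ρ)) :=
            Finset.sum_congr rfl fun g _ => by
              rw [A, A, map_mul, ← smul_mul_assoc, ← mul_smul_comm]
              calc _ = E ρ * (ρ g * (E ρ * E ρ) * ρ g⁻¹) * (ρ h * E ρ) := by simp only [mul_assoc]
                _ = _ := by rw [E_mul_E, mul_smul_comm, smul_mul_assoc]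
        _ = N • (E ρ * (∑ g : GL (Fin n) F, ρ g * E ρ * ρ g⁻¹) * (ρ h * E ρ)) := by
            rw [Finset.mul_sum, Finset.sum_mul, Finset.smul_sum]
        _ = _ := by
            rw [twirl_scalar ρ hd, mul_smul_comm, mul_one, smul_mul_assoc, ← mul_assoc, smul_smul]; rfl
    have e2 : ∑ g : GL (Fin n) F, A ρ (g⁻¹ * h) * A ρ g = (N * mu * N) • E ρ := by
      calc ∑ g : GL (Fin n) F, A ρ (g⁻¹ * h) * A ρ g
          = ∑ g : GL (Fin n) F, N • (E ρ * (ρ g⁻¹ * (ρ h * E ρ) * ρ g) * E ρ) :=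
            Finset.sum_congr rfl fun g _ => by
              rw [A, A, map_mul]
              calc _ = E ρ * (ρ g⁻¹ * ρ h) * (E ρ * E ρ) * (ρ g * E ρ) := by simp only [mul_assoc]
                _ = _ := by rw [E_mul_E]; simp only [mul_smul_comm, smul_mul_assoc, mul_assoc, hN]
        _ = N • (E ρ * (∑ g : GL (Fin n) F, ρ g⁻¹ * (ρ h * E ρ) * ρ g) * E ρ) := by
            rw [Finset.mul_sum, Finset.sum_mul, Finset.smul_sum]
        _ = _ := by
            rw [twirl_scalar' ρ hd, mul_smul_comm, mul_one, smul_mul_assoc, E_mul_E, smul_smul, smul_smul]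
    refine ⟨(N * lam)⁻¹ * (N * mu * N), ?_⟩
    rw [← smul_smul, ← e2, Finset.sum_congr rfl fun g _ => A_comm ρ (g⁻¹ * h) g, e1,
      inv_smul_smul₀ (mul_ne_zero hU hl0)]
  obtain ⟨w, hw, hw0⟩ := (LinearMap.range (E ρ)).ne_bot_iff.mp (fun h => h0 (LinearMap.range_eq_bot.mp h))
  obtain ⟨y, rfl⟩ := hw
  let W : Submodule ℂ (Fin d → ℂ) := Submodule.span ℂ (Set.range fun g : GL (Fin n) F => ρ g (E ρ y))
  have hWt : W = ⊤ := by
    refine top_of_invariant ρ W (fun g v hv => ?_) ?_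
    · induction hv using Submodule.span_induction with
      | mem x hx =>
        obtain ⟨k, rfl⟩ := hx
        exact Submodule.subset_span ⟨g * k, by simp [map_mul]⟩
      | zero => rw [map_zero]; exact W.zero_mem
      | add x z _ _ hx hz => rw [map_add]; exact W.add_mem hx hz
      | smul c x _ hx => rw [map_smul]; exact W.smul_mem c hx
    · exact (Submodule.ne_bot_iff _).mpr ⟨_, Submodule.subset_span ⟨1, rfl⟩, by
        simpa using hw0⟩
  have hle : LinearMap.range (E ρ) ≤ Submodule.span ℂ {E ρ y} := by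
    rw [LinearMap.range_eq_map, ← hWt, Submodule.map_span, Submodule.span_le]
    rintro _ ⟨_, ⟨g, rfl⟩, rfl⟩
    obtain ⟨c, hc⟩ := hsc g
    have := congrArg (fun f : Module.End ℂ (Fin d → ℂ) => f y) hc
    simp only [A, Module.End.mul_apply, LinearMap.smul_apply] at this
    show E ρ (ρ g (E ρ y)) ∈ _
    rw [this]
    exact Submodule.smul_mem _ _ (Submodule.mem_span_singleton_self _)
  exact (Submodule.finrank_mono hle).trans (finrank_span_le_card ({E ρ y} : Set (Fin d → ℂ)) |>.trans (by simp))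

end MultOne

/-- Multiplicity one. -/
theorem inner_Γ_irr {χ : GL (Fin n) F → ℂ} (hχ : IsIrrCharacter _ χ) :
    classInner χ (Γ F n) = 0 ∨ classInner χ (Γ F n) = 1 := by
  have hcf := isClassFunction_irr hχ
  obtain ⟨d, ρ, hρ, rfl⟩ := hχ
  haveI := hρ
  have hU : (Fintype.card (Uni F n) : ℂ) ≠ 0 := Nat.cast_ne_zero.mpr Fintype.card_ne_zero
  have hproj : LinearMap.IsProj (LinearMap.range (E ρ)) ((Fintype.card (Uni F n) : ℂ)⁻¹ • E ρ) := by
    refine ⟨fun x => Submodule.smul_mem _ _ ⟨x, rfl⟩, ?_⟩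
    rintro x ⟨y, rfl⟩
    rw [LinearMap.smul_apply, ← Module.End.mul_apply, E_mul_E, LinearMap.smul_apply, inv_smul_smul₀ hU]
  have h1 : classInner ρ.character (Γ F n) = (Module.finrank ℂ (LinearMap.range (E ρ)) : ℂ) := by
    rw [← hproj.trace, inner_Γ hcf, map_smul, smul_eq_mul, E, map_sum, Nat.card_eq_fintype_card]
    congr 1
    refine Finset.sum_congr rfl fun u _ => ?_
    rw [map_smul, smul_eq_mul, mul_comm]; rfl
  have := finrank_range_E ρ
  rcases Nat.eq_zero_or_pos (Module.finrank ℂ (LinearMap.range (E ρ))) with h | h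
  · left; rw [h1, h, Nat.cast_zero]
  · right; rw [h1, show Module.finrank ℂ (LinearMap.range (E ρ)) = 1 by omega, Nat.cast_one]

end

end CfsgLib.GLCusp
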