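/-
The degree of a cuspidal character of GL_n is the product of the `q^i - 1` times its Gelfand–Graev multiplicity.
-/
import Cfsg.Agent.Lib.GLCusp.Gelfand

set_option autoImplicit false

namespace CfsgLib.GLCusp

open Cfsg CfsgLib.CharTheory Matrix
open scoped BigOperators ComplexConjugate Classical

noncomputable section

variable {F : Type*} [Field F] [Fintype F] [DecidableEq F] {n : ℕ}

/-- Unitriangular matrices whose first `m` columns are those of the identity. -/
def Kc (F : Type*) [Field F] [Fintype F] [DecidableEq F] (n m : ℕ) : Finset (GL (Fin n) F) :=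
  Finset.univ.filter fun x => x ∈ Uni F n ∧ ∀ i j : Fin n, j.val < m → x.1 i j = (1 : Matrix (Fin n) (Fin n) F) i j

/-- Twisted partial sums. -/
def M (χ : GL (Fin n) F → ℂ) (m : ℕ) : ℂ := ∑ x ∈ Kc F n m, χ x * ψ0 F (-sd x.1)

theorem mem_Kc {m : ℕ} {x : GL (Fin n) F} :
    x ∈ Kc F n m ↔ x ∈ Uni F n ∧ ∀ i j : Fin n, j.val < m → x.1 i j = (1 : Matrix (Fin n) (Fin n) F) i j := by
  simp [Kc]

theorem card_Uni (n : ℕ) : Nat.card (Uni F n) = ∏ i ∈ Finset.Ico 1 n, Fintype.card F ^ i := by
  let f : (∀ j : Fin n, Fin j.val → F) → Matrix (Fin n) (Fin n) F := fun c =>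
    Matrix.of fun i j => if h : i.val < j.val then c j ⟨i.val, h⟩ else if i = j then 1 else 0
  have hf : ∀ c, (f c).BlockTriangular id := fun c i j h => by
    have h' : j.val < i.val := h
    show (if h : i.val < j.val then c j ⟨i.val, h⟩ else if i = j then (1 : F) else 0) = 0
    rw [dif_neg (by omega), if_neg (fun e => by rw [e] at h'; omega)]
  have hdet : ∀ c, (f c).det ≠ 0 := fun c => by
    rw [Matrix.det_of_upperTriangular (hf c), Finset.prod_eq_one fun i _ => by simp [f]]
    exact one_ne_zero
  let g : (∀ j : Fin n, Fin j.val → F) → Uni F n := fun c =>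
    ⟨GeneralLinearGroup.mkOfDetNeZero (f c) (hdet c), fun i j hij => by
      show f c i j = _
      rw [Fin.le_def] at hij
      simp only [f, Matrix.of_apply, dif_neg (show ¬ i.val < j.val by omega), Matrix.one_apply]⟩
  have hg : Function.Bijective g := by
    constructor
    · intro c c' h
      funext j i
      have := congrArg (fun x : Uni F n => x.1.1 ⟨i.val, i.isLt.trans j.isLt⟩ j) h
      change f c ⟨i.val, i.isLt.trans j.isLt⟩ j = f c' ⟨i.val, i.isLt.trans j.isLt⟩ j at this
      simpa only [f, Matrix.of_apply, dif_pos i.isLt] using this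
    · intro u
      refine ⟨fun j i => u.1.1 ⟨i.val, i.isLt.trans j.isLt⟩ j, Subtype.ext (Units.ext (Matrix.ext fun i j => ?_))⟩
      show f (fun j i => u.1.1 ⟨i.val, i.isLt.trans j.isLt⟩ j) i j = _
      by_cases h : i.val < j.val
      · simp only [f, Matrix.of_apply, dif_pos h]
      · rw [u.2 i j (by rw [Fin.le_def]; omega)]
        simp only [f, Matrix.of_apply, dif_neg h, Matrix.one_apply]
  rw [← Nat.card_eq_of_bijective g hg, Nat.card_pi]
  simp only [Nat.card_fun, Nat.card_fin, Nat.card_eq_fintype_card (α := F)]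
  rw [Fin.prod_univ_eq_prod_range (fun i => Fintype.card F ^ i)]
  rcases Nat.eq_zero_or_pos n with rfl | hn
  · simp
  · rw [Finset.range_eq_Ico, ← Finset.prod_Ico_consecutive _ (Nat.zero_le 1) hn, Finset.prod_Ico_succ_top (le_refl 0),
      Finset.Ico_self, Finset.prod_empty, one_mul, pow_zero, one_mul]

theorem e0_inl_val {a b : ℕ} (h : a + b = n) (i : Fin a) : (e0 h (.inl i)).val = i.val := by simp [e0]

theorem e0_inr_val {a b : ℕ} (h : a + b = n) (j : Fin b) : (e0 h (.inr j)).val = a + j.val := by simp [e0]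

/-- The recursion for the partial sums. -/
theorem M_step {χ : GL (Fin n) F → ℂ} (hχ : IsCharacter _ χ) (hc : Cusp χ) {m : ℕ} (hm : 1 ≤ m) (hmn : m < n) :
    (Fintype.card F : ℂ) ^ m * M χ (m + 1) = ((Fintype.card F : ℂ) ^ m - 1) * M χ m := by
  let p : Fin n := ⟨m - 1, by omega⟩
  let q : Fin n := ⟨m, hmn⟩
  let c : Fin m → Fin n := fun i => ⟨i.val, i.isLt.trans hmn⟩
  let f : GL (Fin n) F → F := fun x => sd x.1 - x.1 p q
  let T : (Fin m → F) → ℂ := fun a => ∑ x ∈ Kc F n m, χ x * ψ0 F (-f x - ∑ i, a i * x.1 (c i) q)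
  -- the average over all linear forms
  have hsum : ∑ a, T a = (Fintype.card F : ℂ) ^ m * M χ (m + 1) := by
    simp only [T, M]
    rw [Finset.sum_comm, Finset.mul_sum]
    simp only [sub_eq_add_neg, AddChar.map_add_eq_mul, ← Finset.mul_sum]
    rw [Finset.mul_sum]
    refine Eq.trans (Finset.sum_congr rfl fun x _ => by
      rw [sum_ψ0_dot (v := fun i => x.1 (c i) q), Fintype.card_fin, mul_ite, mul_ite, mul_zero, mul_zero]) ?_
    rw [← Finset.sum_filter]
    refine Finset.sum_congr ?_ fun x hx => ?_
    · ext x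
      simp only [Finset.mem_filter, mem_Kc]
      constructor
      · rintro ⟨⟨h1, h2⟩, h3⟩
        refine ⟨h1, fun i j hj => ?_⟩
        rcases Nat.lt_succ_iff_lt_or_eq.mp hj with h | h
        · exact h2 i j h
        · have hjq : j = q := Fin.ext h
          subst hjq
          rcases lt_or_ge i.val m with h' | h'
          · rw [Matrix.one_apply_ne (fun e => by rw [e] at h'; simp [q] at h')]
            exact congrFun h3 ⟨i.val, h'⟩
          · exact h1 i q h'
      · rintro ⟨h1, h2⟩
        refine ⟨⟨h1, fun i j hj => h2 i j (by omega)⟩, funext fun i => ?_⟩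
        rw [Pi.zero_apply, h2 _ _ (show q.val < m + 1 from Nat.lt_succ_self m), Matrix.one_apply_ne]
        intro e
        have := congrArg Fin.val e
        have := i.isLt
        simp [c, q] at *
        omega
    · obtain ⟨h1, h2⟩ := mem_Kc.mp hx
      have : x.1 p q = 0 := by
        rw [h2 p q (show m < m + 1 by omega), Matrix.one_apply_ne]
        intro e
        have := congrArg Fin.val e
        simp [p, q] at this
        omega
      simp only [f, this, sub_zero]
      ring
  -- the trivial form contributes nothing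
  have hzero : T 0 = 0 := by
    let R := U F (fun i : Fin n => i.val < m)
    have hRK : ∀ r : R, (r : GL (Fin n) F) ∈ Kc F n m := fun r => mem_Kc.mpr
      ⟨fun i j hij => r.2 i j (by rw [Fin.le_def] at hij; omega), fun i j hj => r.2 i j (fun h => h.2 hj)⟩
    have hf : ∀ r : R, f r = 0 := by
      intro r
      obtain ⟨hr, -⟩ := mem_Kc.mp (hRK r)
      show sd (r : GL (Fin n) F).1 - _ = 0
      rw [sub_eq_zero, sd, Finset.sum_eq_single p, Finset.sum_eq_single q]
      · rw [if_pos (show p.val + 1 = q.val by simp [p, q]; omega)]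
      · intro j _ hj
        rw [if_neg]
        intro e
        exact hj (Fin.ext (by simp [p, q] at e ⊢; omega))
      · simp
      · intro i _ hi
        refine Finset.sum_eq_zero fun j _ => ?_
        split
        · next e =>
          rw [r.2 i j, Matrix.one_apply_ne (fun e' => by rw [e'] at e; omega)]
          rintro ⟨h1, h2⟩
          exact hi (Fin.ext (by simp [p] at h1 h2 ⊢; omega))
        · rfl
      · simp
    have key : ∀ r : R, ∑ x ∈ Kc F n m, χ ((x : GL (Fin n) F) * r) * ψ0 F (-f x) = T 0 := by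
      intro r
      obtain ⟨hr, hr'⟩ := mem_Kc.mp (hRK r)
      have hclosed : ∀ r : GL (Fin n) F, r ∈ Kc F n m → ∀ x ∈ Kc F n m, r * x ∈ Kc F n m := by
        intro r hr x hx
        obtain ⟨r1, r2⟩ := mem_Kc.mp hr
        obtain ⟨x1, x2⟩ := mem_Kc.mp hx
        refine mem_Kc.mpr ⟨(Uni F n).mul_mem r1 x1, fun i j hj => ?_⟩
        rw [Units.val_mul, Matrix.mul_apply, Finset.sum_eq_single j (fun k _ hk => by
          rw [x2 k j hj, Matrix.one_apply_ne hk, mul_zero]) (by simp), x2 j j hj, Matrix.one_apply_eq, mul_one,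
          r2 i j hj]
      refine Finset.sum_nbij' (fun x => (r : GL (Fin n) F) * x) (fun x => (r : GL (Fin n) F)⁻¹ * x) ?_ ?_ ?_ ?_ ?_
      · exact fun x hx => hclosed _ (hRK r) x hx
      · exact fun x hx => hclosed _ (hRK (r⁻¹)) x hx
      · exact fun x _ => inv_mul_cancel_left _ _
      · exact fun x _ => mul_inv_cancel_left _ _
      · intro x hx
        obtain ⟨x1, -⟩ := mem_Kc.mp hx
        have hcf := isClassFunction_char hχ (x * r) r
        rw [show (r : GL (Fin n) F) * (x * r) * (r : GL (Fin n) F)⁻¹ = r * x by group] at hcf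
        rw [hcf]
        congr 2
        simp only [Pi.zero_apply, zero_mul, Finset.sum_const_zero, sub_zero]
        have h0 := hf r
        simp only [f] at h0 ⊢
        rw [sd_mul hr x1, uni_mul_super hr x1 (show p.val + 1 = q.val by simp [p, q]; omega)]
        linear_combination h0
    have : (Fintype.card R : ℂ) * T 0 = 0 := by
      rw [← nsmul_eq_mul, ← Finset.card_univ, ← Finset.sum_const, ← Finset.sum_congr rfl fun r _ => key r,
        Finset.sum_comm]
      refine Finset.sum_eq_zero fun x _ => ?_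
      rw [← Finset.sum_mul, sum_shift_eq_zero hχ R (hc _ ⟨p, by simp [p]; omega⟩ ⟨q, by simp [q]⟩) x, zero_mul]
    exact (mul_eq_zero.mp this).resolve_left (Nat.cast_ne_zero.mpr Fintype.card_ne_zero)
  -- all other forms contribute equally
  have hne : ∀ a : Fin m → F, a ≠ 0 → T a = M χ m := by
    intro a ha
    obtain ⟨i0, hi0⟩ := Function.ne_iff.mp ha
    let l : Fin m := ⟨m - 1, by omega⟩
    let H0 : Matrix (Fin m) (Fin m) F := Matrix.updateRow 1 i0 (∑ k, a k • (1 : Matrix (Fin m) (Fin m) F) k)
    have hd : (H0.submatrix (Equiv.swap l i0) id).det ≠ 0 := by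
      rw [Matrix.det_permute]
      refine mul_ne_zero ?_ ?_
      · rcases Int.units_eq_one_or (Equiv.Perm.sign (Equiv.swap l i0)) with h | h <;> simp [h]
      · rw [Matrix.det_updateRow_sum, Matrix.det_one, smul_eq_mul, mul_one]; exact hi0
    let H : GL (Fin m) F := GeneralLinearGroup.mkOfDetNeZero _ hd
    have hH : ∀ j, H.1 l j = a j := fun j => by
      show H0 (Equiv.swap l i0 l) j = _
      rw [Equiv.swap_apply_left]
      simp [H0, Matrix.one_apply, Finset.sum_apply]
    obtain ⟨k, hk⟩ : ∃ k, m + k = n := ⟨n - m, by omega⟩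
    let e := e0 hk
    let D : GL (Fin m) F → GL (Fin n) F := fun H => emb1 e H
    have hconj : ∀ (H : GL (Fin m) F) (x : GL (Fin n) F), x ∈ Kc F n m →
        (∀ i j : Fin n, ¬ (i.val < m ∧ m ≤ j.val) → (D H * x * (D H)⁻¹).1 i j = x.1 i j) ∧
          ∀ i : Fin m, (D H * x * (D H)⁻¹).1 (c i) q = ∑ z, H.1 i z * x.1 (c z) q := by
      intro H x hx
      obtain ⟨x1, x2⟩ := mem_Kc.mp hx
      have hxP : x ∈ P e := fun j i => by
        rw [x2 _ _ (by rw [e0_inl_val]; exact i.isLt), Matrix.one_apply_ne (fun h => by simpa using e.injective h)]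
      obtain ⟨⟨A, Y, X⟩, hAX⟩ := (parEquiv e).surjective ⟨x, hxP⟩
      have hx' : x = mk e A Y X := (congrArg Subtype.val hAX).symm
      have hA : A = 1 := Units.ext (Matrix.ext fun i j => by
        have := mk_apply e A Y X (.inl i) (.inl j)
        rw [← hx', x2 _ _ (by rw [e0_inl_val]; exact j.isLt), Matrix.fromBlocks_apply₁₁] at this
        rw [← this, Units.val_one, Matrix.one_apply, Matrix.one_apply]
        simp)
      subst hA
      have hval : D H * x * (D H)⁻¹ = mk e 1 Y (H.1 * X) := by
        rw [hx', ← map_inv]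
        show mk e H 1 0 * _ * mk e H⁻¹ 1 0 = _
        rw [mk_mul, mk_mul]
        simp
      rw [hval]
      refine ⟨fun i j hij => ?_, fun i => ?_⟩
      · obtain ⟨z, rfl⟩ := e.surjective i
        obtain ⟨w, rfl⟩ := e.surjective j
        rw [hx', mk_apply, mk_apply]
        rcases z with z | z <;> rcases w with w | w
        · rfl
        · refine absurd ⟨?_, ?_⟩ hij
          · rw [e0_inl_val]; exact z.isLt
          · rw [e0_inr_val]; omega
        · rfl
        · rfl
      · have hci : ∀ i : Fin m, c i = e (.inl i) := fun i => Fin.ext (e0_inl_val hk i).symm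
        have hq : q = e (.inr (⟨0, by omega⟩ : Fin k)) := Fin.ext (by rw [e0_inr_val]; simp [q])
        rw [hci i, hq, mk_apply, Matrix.fromBlocks_apply₁₂, Matrix.mul_apply]
        refine Finset.sum_congr rfl fun z _ => ?_
        rw [hci z, hx', mk_apply, Matrix.fromBlocks_apply₁₂]
    have hmaps : ∀ (H : GL (Fin m) F) (x : GL (Fin n) F), x ∈ Kc F n m →
        D H * x * (D H)⁻¹ ∈ Kc F n m := by
      intro H x hx
      obtain ⟨x1, x2⟩ := mem_Kc.mp hx
      refine mem_Kc.mpr ⟨fun i j hij => ?_, fun i j hj => ?_⟩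
      · rw [(hconj H x hx).1 i j (by rw [Fin.le_def] at hij; omega), x1 i j hij]
      · rw [(hconj H x hx).1 i j (by omega), x2 i j hj]
    have hcp : p = c l := rfl
    have hsf : ∀ x ∈ Kc F n m, f (D H * x * (D H)⁻¹) = f x := by
      intro x hx
      have : ∀ y : GL (Fin n) F, f y = ∑ i : Fin n, ∑ j : Fin n,
          if i.val + 1 = j.val ∧ ¬ (i.val < m ∧ m ≤ j.val) then y.1 i j else 0 := by
        intro y
        have h1 : y.1 p q = ∑ i : Fin n, ∑ j : Fin n,
            if i.val + 1 = j.val ∧ (i.val < m ∧ m ≤ j.val) then y.1 i j else 0 := by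
          rw [Finset.sum_eq_single p, Finset.sum_eq_single q, if_pos]
          · simp [p, q]; omega
          · intro j _ hj; rw [if_neg]; rintro ⟨h, -, -⟩
            exact hj (Fin.ext (by simp [p, q] at h ⊢; omega))
          · simp
          · intro i _ hi
            refine Finset.sum_eq_zero fun j _ => if_neg ?_
            rintro ⟨h, h', h''⟩
            exact hi (Fin.ext (by simp [p] at h ⊢; omega))
          · simp
        simp only [f, h1, sd, ← Finset.sum_sub_distrib]
        refine Finset.sum_congr rfl fun i _ => Finset.sum_congr rfl fun j _ => ?_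
        by_cases h2 : i.val + 1 = j.val <;> by_cases h3 : i.val < m ∧ m ≤ j.val <;> simp [h2, h3]
      rw [this, this]
      refine Finset.sum_congr rfl fun i _ => Finset.sum_congr rfl fun j _ => ?_
      split
      · next h => exact (hconj H x hx).1 i j h.2
      · rfl
    refine Finset.sum_nbij' (fun x => D H * x * (D H)⁻¹) (fun x => D H⁻¹ * x * (D H⁻¹)⁻¹) ?_ ?_ ?_ ?_ ?_
    · exact fun x hx => hmaps H x hx
    · exact fun x hx => hmaps H⁻¹ x hx
    · intro x _; simp only [D, map_inv]; group
    · intro x _; simp only [D, map_inv]; group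
    · intro x hx
      rw [isClassFunction_char hχ]
      congr 2
      have h1 := (hconj H x hx).2 l
      simp only [hH] at h1
      rw [← hcp] at h1
      rw [← h1, ← hsf x hx]
      simp only [f]
      ring
  rw [← hsum, ← Finset.sum_erase_add _ _ (Finset.mem_univ (0 : Fin m → F)), hzero, add_zero,
    Finset.sum_congr rfl fun a ha => hne a (Finset.ne_of_mem_erase ha), Finset.sum_const,
    Finset.card_erase_of_mem (Finset.mem_univ _), Finset.card_univ, Fintype.card_fun, Fintype.card_fin, nsmul_eq_mul,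
    Nat.cast_sub (Nat.one_le_pow _ _ Fintype.card_pos), Nat.cast_pow, Nat.cast_one]

/-- The degree formula. -/
theorem degree_cusp {χ : GL (Fin n) F → ℂ} (hχ : IsCharacter _ χ) (hc : Cusp χ) (hn : 1 ≤ n) :
    χ 1 = (∏ i ∈ Finset.Ico 1 n, ((Fintype.card F : ℂ) ^ i - 1)) * classInner χ (Γ F n) := by
  have h1 : M χ 1 = (Nat.card (Uni F n) : ℂ) * classInner χ (Γ F n) := by
    rw [inner_Γ (isClassFunction_char hχ), ← mul_assoc,
      mul_inv_cancel₀ (Nat.cast_ne_zero.mpr Nat.card_pos.ne'), one_mul, M,
      Finset.sum_subtype (p := (· ∈ Uni F n)) (Kc F n 1) (fun x => ?_)]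
    · refine Finset.sum_congr rfl fun u _ => ?_
      rw [ψU, ← AddChar.map_neg_eq_conj]
    · rw [mem_Kc]
      refine ⟨fun h => h.1, fun h => ⟨h, fun i j hj => h i j ?_⟩⟩
      rw [Fin.le_def]; omega
  have hn' : M χ n = χ 1 := by
    have : Kc F n n = {1} := by
      ext x
      rw [mem_Kc, Finset.mem_singleton]
      refine ⟨fun h => Units.ext (Matrix.ext fun i j => h.2 i j j.isLt), ?_⟩
      rintro rfl
      exact ⟨one_mem _, fun _ _ _ => rfl⟩
    rw [M, this, Finset.sum_singleton, Units.val_one, sd_one, neg_zero, AddChar.map_zero_eq_one, mul_one]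
  have ind : ∀ m, 1 ≤ m → m ≤ n → M χ m * ∏ i ∈ Finset.Ico 1 m, (Fintype.card F : ℂ) ^ i =
      M χ 1 * ∏ i ∈ Finset.Ico 1 m, ((Fintype.card F : ℂ) ^ i - 1) := by
    intro m hm
    induction m, hm using Nat.le_induction with
    | base => simp
    | succ m hm ih =>
      intro hmn
      rw [Finset.prod_Ico_succ_top hm, Finset.prod_Ico_succ_top hm]
      have h2 := M_step hχ hc hm (by omega)
      linear_combination ((Fintype.card F : ℂ) ^ m - 1) * ih (by omega) +
        (∏ i ∈ Finset.Ico 1 m, (Fintype.card F : ℂ) ^ i) * h2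
  have h3 := ind n hn le_rfl
  rw [hn', h1, card_Uni, Nat.cast_prod] at h3
  simp only [Nat.cast_pow] at h3
  refine mul_right_cancel₀ (b := ∏ i ∈ Finset.Ico 1 n, (Fintype.card F : ℂ) ^ i) ?_ (h3.trans (by ring))
  exact Finset.prod_ne_zero_iff.mpr fun i _ => pow_ne_zero _ (Nat.cast_ne_zero.mpr Fintype.card_ne_zero)

end

end CfsgLib.GLCusp
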