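/-
The norm of the Gelfand–Graev character and its pairing with parabolic induction.
-/
import Cfsg.Agent.Lib.GLCusp.Degree

set_option autoImplicit false

namespace CfsgLib.GLCusp

open Cfsg CfsgLib.CharTheory Matrix
open scoped BigOperators ComplexConjugate Classical

noncomputable section

section Fibre

variable {G : Type*} [Group G] [Fintype G]

/-- The fibres of `(h, k) ↦ h * g₀ * k`. -/
theorem card_fibre (H K : Subgroup G) (g0 : G) (h0 : H) (k0 : K) :
    Nat.card {x : H × K // (x.1 : G) * g0 * x.2 = h0 * g0 * k0} = Nat.card {y : H // g0⁻¹ * y * g0 ∈ K} := by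
  refine Nat.card_congr
    { toFun := fun x => ⟨h0⁻¹ * x.1.1, ?_⟩
      invFun := fun y => ⟨(h0 * y.1, ⟨(g0⁻¹ * y.1 * g0)⁻¹ * k0, K.mul_mem (K.inv_mem y.2) k0.2⟩), ?_⟩
      left_inv := ?_
      right_inv := ?_ }
  · have : g0⁻¹ * ((h0⁻¹ * x.1.1 : H) : G) * g0 = (k0 : G) * (x.1.2 : G)⁻¹ := by
      rw [eq_mul_inv_iff_mul_eq, Subgroup.coe_mul, InvMemClass.coe_inv,
        show g0⁻¹ * ((h0 : G)⁻¹ * x.1.1) * g0 * x.1.2 = g0⁻¹ * (h0 : G)⁻¹ * (x.1.1 * g0 * x.1.2) by group, x.2]
      group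
    show g0⁻¹ * ((h0⁻¹ * x.1.1 : H) : G) * g0 ∈ K
    rw [this]; exact K.mul_mem k0.2 (K.inv_mem x.1.2.2)
  · show ((h0 * y.1 : H) : G) * g0 * ((g0⁻¹ * y.1 * g0)⁻¹ * k0) = _
    simp only [Subgroup.coe_mul]; group
  · intro x
    refine Subtype.ext (Prod.ext (mul_inv_cancel_left _ _) (Subtype.ext ?_))
    show (g0⁻¹ * ((h0⁻¹ * x.1.1 : H) : G) * g0)⁻¹ * k0 = _
    rw [Subgroup.coe_mul, InvMemClass.coe_inv, inv_mul_eq_iff_eq_mul,
      show g0⁻¹ * ((h0 : G)⁻¹ * x.1.1) * g0 * x.1.2 = g0⁻¹ * (h0 : G)⁻¹ * (x.1.1 * g0 * x.1.2) by group, x.2]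
    group
  · intro y; exact Subtype.ext (inv_mul_cancel_left _ _)

/-- Summing a function over a parametrization by double cosets. -/
theorem sum_param {X : Type*} [Fintype X] (f : X → G) (J : G → ℂ) (w : X → ℂ)
    (hfib : ∀ x, w x * (Nat.card {y // f y = f x} : ℂ) = 1) (hw : ∀ x y, f x = f y → w x = w y)
    (hzero : ∀ g, (∀ x, f x ≠ g) → J g = 0) : ∑ x, J (f x) * w x = ∑ g, J g := by
  rw [← Finset.sum_fiberwise Finset.univ f]
  refine Finset.sum_congr rfl fun g _ => ?_
  by_cases h : ∃ x, f x = g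
  · obtain ⟨x0, rfl⟩ := h
    rw [Finset.sum_congr rfl fun x hx => show J (f x) * w x = J (f x0) * w x0 by
      rw [hw x x0 (Finset.mem_filter.mp hx).2, (Finset.mem_filter.mp hx).2],
      Finset.sum_const, nsmul_eq_mul, ← Fintype.card_subtype, ← Nat.card_eq_fintype_card]
    linear_combination J (f x0) * hfib x0
  · push Not at h
    rw [hzero g h]
    exact Finset.sum_eq_zero fun x hx => absurd (Finset.mem_filter.mp hx).2 (h x)

end Fibre

variable {F : Type*} [Field F] [Fintype F] [DecidableEq F] {n : ℕ}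

theorem ext_ψU_mul {a : GL (Fin n) F} (ha : a ∈ Uni F n) (x : GL (Fin n) F) :
    extendByZero (Uni F n) (ψU F n) (a * x) = ψ0 F (sd a.1) * extendByZero (Uni F n) (ψU F n) x := by
  rw [ext_ψU, ext_ψU]
  by_cases hx : x ∈ Uni F n
  · rw [if_pos hx, if_pos ((Uni F n).mul_mem ha hx), sd_mul ha hx, AddChar.map_add_eq_mul]
  · rw [if_neg hx, if_neg (fun h => hx (((Uni F n).mul_mem_cancel_left ha).mp h)), mul_zero]

theorem J_mon_eq_zero {π : Equiv.Perm (Fin n)} {t : Fin n → Fˣ} (hs : ¬ Sup π t) :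
    J (ψU F n) (ψU F n) (mon π t) = 0 := by
  obtain ⟨w, hw⟩ := ψ0_ne F
  obtain ⟨a, ha, b, hb, hab, hd⟩ := exists_of_not_sup hs w
  have key : J (ψU F n) (ψU F n) (mon π t) = ψ0 F w * J (ψU F n) (ψU F n) (mon π t) := by
    conv_rhs => rw [J, Finset.mul_sum]
    rw [J]
    refine (Fintype.sum_equiv (Equiv.mulLeft a) _ _ fun x => ?_).symm
    rw [Equiv.coe_mulLeft, ext_ψU_mul ha,
      show (mon π t)⁻¹ * (a * x) * mon π t = b * ((mon π t)⁻¹ * x * mon π t) by
        rw [show b = (mon π t)⁻¹ * a * mon π t by rw [mul_assoc, hab, inv_mul_cancel_left]]; group,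
      ext_ψU_mul hb, map_mul, ← hd, ← ψ0_mul_conj]
    ring
  by_contra hne
  exact hw ((mul_eq_right₀ hne).mp key.symm)

/-- The size of the stabiliser of a double coset. -/
def cst (F : Type*) [Field F] [Fintype F] [DecidableEq F] (g : GL (Fin n) F) : ℕ :=
  Nat.card {y : Uni F n // g⁻¹ * y * g ∈ Uni F n}

theorem cst_pos (g : GL (Fin n) F) : 0 < cst F g := by
  haveI : Nonempty {y : Uni F n // g⁻¹ * y * g ∈ Uni F n} := ⟨⟨1, by simp⟩⟩
  exact Nat.card_pos

theorem J_mon_of_sup {π : Equiv.Perm (Fin n)} {t : Fin n → Fˣ} (hs : Sup π t) :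
    J (ψU F n) (ψU F n) (mon π t) = (cst F (mon π t : GL (Fin n) F) : ℂ) := by
  rw [J, sum_extendByZero, cst, Nat.card_eq_fintype_card, Fintype.card_subtype, Finset.card_filter, Nat.cast_sum]
  refine Finset.sum_congr rfl fun x _ => ?_
  rw [ext_ψU]
  split
  · next h =>
    rw [Nat.cast_one, ψU, ψ0_mul_conj, hs.sd_eq x.2 h (by group), sub_self, AddChar.map_zero_eq_one]
  · simp

/-- The norm of the Gelfand–Graev character. -/
theorem norm_Γ : classInner (Γ F n) (Γ F n) = (Nat.card (Supp2 F n) : ℂ) := by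
  rw [Γ, inner_ind_ind]
  have hU : (Nat.card (Uni F n) : ℂ) ≠ 0 := Nat.cast_ne_zero.mpr Nat.card_pos.ne'
  let f : (Equiv.Perm (Fin n) × (Fin n → Fˣ)) × (Uni F n × Uni F n) → GL (Fin n) F :=
    fun x => x.2.1 * mon x.1.1 x.1.2 * x.2.2
  have huniq : ∀ x y, f x = f y → x.1 = y.1 := by
    rintro ⟨⟨π, t⟩, u, v⟩ ⟨⟨π', t'⟩, u', v'⟩ h
    simp only [f] at h
    have := mon_unique (((u' : Uni F n)⁻¹ * u : Uni F n)).2 ((v' * v⁻¹ : Uni F n)).2
      (π := π) (t := t) (π' := π') (t' := t') (by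
        simp only [Subgroup.coe_mul, InvMemClass.coe_inv]
        rw [mul_assoc, inv_mul_eq_iff_eq_mul, ← mul_assoc, ← mul_assoc, eq_mul_inv_iff_mul_eq]
        exact h)
    exact Prod.ext this.1 this.2
  have hfib : ∀ x, Nat.card {y // f y = f x} = cst F (mon x.1.1 x.1.2 : GL (Fin n) F) := by
    intro x
    rw [cst, ← card_fibre _ _ _ x.2.1 x.2.2]
    refine Nat.card_congr
      { toFun := fun y => ⟨y.1.2, ?_⟩
        invFun := fun z => ⟨(x.1, z.1), z.2⟩
        left_inv := fun y => Subtype.ext (Prod.ext (huniq _ _ y.2).symm rfl)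
        right_inv := fun z => rfl }
    have := y.2
    simp only [f, huniq _ _ y.2] at this
    exact this
  rw [← sum_param f _ (fun x => (cst F (mon x.1.1 x.1.2 : GL (Fin n) F) : ℂ)⁻¹)
    (fun x => by rw [hfib, inv_mul_cancel₀ (Nat.cast_ne_zero.mpr (cst_pos _).ne')])
    (fun x y h => by rw [huniq x y h]) (fun g hg => by
      obtain ⟨u, hu, π, t, v, hv, rfl⟩ := exists_decomp g
      exact absurd rfl (hg ((π, t), ⟨u, hu⟩, ⟨v, hv⟩)))]
  rw [Fintype.sum_prod_type]
  have hterm : ∀ (a : Equiv.Perm (Fin n) × (Fin n → Fˣ)) (b : Uni F n × Uni F n),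
      J (ψU F n) (ψU F n) (f (a, b)) * (cst F (mon a.1 a.2 : GL (Fin n) F) : ℂ)⁻¹ =
        if Sup a.1 a.2 then 1 else 0 := by
    intro a b
    simp only [f]
    rw [J_mul_right _ isClassFunction_ψU b.2.2, J_mul_left isClassFunction_ψU _ b.1.2]
    split
    · next h => rw [J_mon_of_sup h, mul_inv_cancel₀ (Nat.cast_ne_zero.mpr (cst_pos _).ne')]
    · next h => rw [J_mon_eq_zero h, zero_mul]
  simp only [hterm, Finset.sum_const, Finset.card_univ, Fintype.card_prod, nsmul_eq_mul, Nat.cast_mul,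
    ← Finset.mul_sum, Finset.sum_boole, ← Fintype.card_subtype, ← Nat.card_eq_fintype_card, Nat.card_prod]
  field_simp

/-! ### Pairing with parabolic induction -/

/-- The splitting with the first block last. -/
def e1 {a b : ℕ} (h : a + b = n) : Fin a ⊕ Fin b ≃ Fin n :=
  (Equiv.sumComm _ _).trans (e0 ((Nat.add_comm b a).trans h))

theorem e1_inl_val {a b : ℕ} (h : a + b = n) (i : Fin a) : (e1 h (.inl i)).val = b + i.val := by
  simp [e1, e0_inr_val]

theorem e1_inr_val {a b : ℕ} (h : a + b = n) (j : Fin b) : (e1 h (.inr j)).val = j.val := by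
  simp [e1, e0_inl_val]

theorem mk_mem_Uni {a b : ℕ} (h : a + b = n) (A : GL (Fin a) F) (D : GL (Fin b) F) (X : Matrix (Fin a) (Fin b) F) :
    mk (e1 h) A D X ∈ Uni F n ↔ A ∈ Uni F a ∧ D ∈ Uni F b ∧ X = 0 := by
  constructor
  · intro hu
    refine ⟨fun i j hij => ?_, fun i j hij => ?_, Matrix.ext fun i j => ?_⟩
    · have := hu (e1 h (.inl i)) (e1 h (.inl j)) (by
        rw [Fin.le_def, e1_inl_val, e1_inl_val]; rw [Fin.le_def] at hij; omega)
      rw [mk_apply, Matrix.fromBlocks_apply₁₁] at this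
      simpa [Matrix.one_apply] using this
    · have := hu (e1 h (.inr i)) (e1 h (.inr j)) (by
        rw [Fin.le_def, e1_inr_val, e1_inr_val]; rw [Fin.le_def] at hij; omega)
      rw [mk_apply, Matrix.fromBlocks_apply₂₂] at this
      simpa [Matrix.one_apply] using this
    · have := hu (e1 h (.inl i)) (e1 h (.inr j)) (by rw [Fin.le_def, e1_inl_val, e1_inr_val]; omega)
      rw [mk_apply, Matrix.fromBlocks_apply₁₂, Matrix.one_apply_ne (by simp)] at this
      exact this
  · rintro ⟨hA, hD, rfl⟩ i j hij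
    obtain ⟨z, rfl⟩ := (e1 h).surjective i
    obtain ⟨w, rfl⟩ := (e1 h).surjective j
    rw [Fin.le_def] at hij
    rw [mk_apply]
    rcases z with z | z <;> rcases w with w | w
    · rw [Matrix.fromBlocks_apply₁₁, hA z w (by rw [Fin.le_def]; rw [e1_inl_val, e1_inl_val] at hij; omega)]
      simp [Matrix.one_apply]
    · rw [Matrix.one_apply_ne (by simp)]; rfl
    · rw [e1_inr_val, e1_inl_val] at hij; omega
    · rw [Matrix.fromBlocks_apply₂₂, hD z w (by rw [Fin.le_def]; rw [e1_inr_val, e1_inr_val] at hij; omega)]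
      simp [Matrix.one_apply]

theorem sd_mk {a b : ℕ} (h : a + b = n) (A : GL (Fin a) F) (D : GL (Fin b) F) :
    sd (mk (e1 h) A D 0).1 = sd A.1 + sd D.1 := by
  rw [sd, sd, sd, ← Equiv.sum_comp (e1 h), Fintype.sum_sum_type]
  have inner : ∀ z, (∑ j, if (e1 h z).val + 1 = j.val then (mk (e1 h) A D 0).1 (e1 h z) j else 0) =
      ∑ w, if (e1 h z).val + 1 = (e1 h w).val then Matrix.fromBlocks A.1 0 0 D.1 z w else 0 := fun z => by
    rw [← Equiv.sum_comp (e1 h)]
    exact Finset.sum_congr rfl fun w _ => by rw [mk_apply]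
  rw [Finset.sum_congr rfl fun z _ => inner (.inl z), Finset.sum_congr rfl fun z _ => inner (.inr z)]
  simp only [Fintype.sum_sum_type, e1_inl_val, e1_inr_val, Matrix.fromBlocks_apply₁₁,
    Matrix.fromBlocks_apply₁₂, Matrix.fromBlocks_apply₂₁, Matrix.fromBlocks_apply₂₂, Matrix.zero_apply, ite_self,
    Finset.sum_const_zero, add_zero, zero_add]
  simp only [add_assoc, add_left_cancel_iff]

/-- A parabolically induced function pairs with the Gelfand–Graev character through its factors. -/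
theorem inner_prod_Γ {a b : ℕ} (e : Fin a ⊕ Fin b ≃ Fin n) {σ : GL (Fin a) F → ℂ} {α : GL (Fin b) F → ℂ}
    (hσ : IsClassFunction _ σ) (hα : IsClassFunction _ α) :
    classInner (prod e σ α) (Γ F n) = classInner σ (Γ F a) * classInner α (Γ F b) := by
  have hab : a + b = n := by simpa using Fintype.card_congr e
  rw [prod_indep (e1 hab) e, prod, Γ, inner_ind_ind]
  set Pp := P (F := F) (e1 hab) with hPp
  let f : Pp × Uni F n → GL (Fin n) F := fun x => x.1 * 1 * x.2
  let c1 := Nat.card {y : Pp // (1 : GL (Fin n) F)⁻¹ * y * 1 ∈ Uni F n}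
  have hc1 : (c1 : ℂ) = Nat.card (Uni F a) * Nat.card (Uni F b) := by
    have hy : ∀ y : {y : Pp // (1 : GL (Fin n) F)⁻¹ * y * 1 ∈ Uni F n},
        p1 (e1 hab) y.1 ∈ Uni F a ∧ p2 (e1 hab) y.1 ∈ Uni F b ∧
          parEquiv (e1 hab) (p1 (e1 hab) y.1, p2 (e1 hab) y.1, 0) = y.1 := by
      rintro ⟨y, hy⟩
      obtain ⟨⟨A, D, X⟩, rfl⟩ := (parEquiv (e1 hab)).surjective y
      rw [inv_one, one_mul, mul_one] at hy
      obtain ⟨hA, hD, rfl⟩ := (mk_mem_Uni hab A D X).mp hy
      simp only [p1_parEquiv, p2_parEquiv, hA, hD, and_self]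
    rw [← Nat.cast_mul, ← Nat.card_prod]
    congr 1
    refine Eq.symm (Nat.card_congr
      { toFun := fun z => ⟨parEquiv (e1 hab) (z.1.1, z.2.1, 0), by
          rw [inv_one, one_mul, mul_one]
          exact (mk_mem_Uni hab _ _ _).mpr ⟨z.1.2, z.2.2, rfl⟩⟩
        invFun := fun y => (⟨p1 (e1 hab) y.1, (hy y).1⟩, ⟨p2 (e1 hab) y.1, (hy y).2.1⟩)
        left_inv := fun z => Prod.ext
          (Subtype.ext (p1_parEquiv (e1 hab) (z.1 : GL (Fin a) F) (z.2 : GL (Fin b) F) 0))
          (Subtype.ext (p2_parEquiv (e1 hab) (z.1 : GL (Fin a) F) (z.2 : GL (Fin b) F) 0))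
        right_inv := fun y => Subtype.ext (hy y).2.2 })
  have hc0 : (c1 : ℂ) ≠ 0 := by
    rw [hc1]
    exact mul_ne_zero (Nat.cast_ne_zero.mpr Nat.card_pos.ne') (Nat.cast_ne_zero.mpr Nat.card_pos.ne')
  have hJ1 : J (infl (e1 hab) σ α) (ψU F n) 1 =
      (∑ A : GL (Fin a) F, σ A * conj (extendByZero (Uni F a) (ψU F a) A)) *
        ∑ D : GL (Fin b) F, α D * conj (extendByZero (Uni F b) (ψU F b) D) := by
    rw [J, sum_extendByZero, ← Equiv.sum_comp (parEquiv (F := F) (e1 hab)), Fintype.sum_prod_type,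
      Finset.sum_mul_sum]
    refine Finset.sum_congr rfl fun A _ => ?_
    rw [Fintype.sum_prod_type]
    refine Finset.sum_congr rfl fun D _ => ?_
    rw [Finset.sum_eq_single (0 : Matrix (Fin a) (Fin b) F) ?_ (by simp)]
    · rw [inv_one, one_mul, mul_one, infl_parEquiv, ext_ψU, ext_ψU, ext_ψU]
      show σ A * α D * conj (if mk (e1 hab) A D 0 ∈ Uni F n then ψ0 F (sd (mk (e1 hab) A D 0).1) else 0) = _
      rw [sd_mk]
      by_cases h1 : A ∈ Uni F a <;> by_cases h2 : D ∈ Uni F b <;>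
        simp [mk_mem_Uni, h1, h2, AddChar.map_add_eq_mul]
      ring
    · intro X _ hX
      rw [inv_one, one_mul, mul_one, extendByZero_of_not_mem, map_zero, mul_zero]
      exact fun hm => hX ((mk_mem_Uni hab A D X).mp hm).2.2
  have hinner : ∀ {m : ℕ} {θ : GL (Fin m) F → ℂ}, IsClassFunction _ θ →
      ∑ x : GL (Fin m) F, θ x * conj (extendByZero (Uni F m) (ψU F m) x) =
        (Nat.card (Uni F m) : ℂ) * classInner θ (Γ F m) := by
    intro m θ hθ
    rw [inner_Γ hθ, mul_inv_cancel_left₀ (Nat.cast_ne_zero.mpr Nat.card_pos.ne')]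
    have := congrArg conj (sum_extendByZero (Uni F m) (ψU F m) fun x => conj (θ x))
    simp only [map_sum, map_mul, Complex.conj_conj] at this
    rw [Finset.sum_congr rfl fun x _ => mul_comm (θ x) _, this]
    exact Finset.sum_congr rfl fun x _ => mul_comm _ _
  -- outside the big coset the twisted sums vanish
  have hzero : ∀ g, (∀ x, f x ≠ g) → J (infl (e1 hab) σ α) (ψU F n) g = 0 := by
    intro g hg
    let R : GL (Fin n) F := mon Fin.revPerm 1
    obtain ⟨u, hu, π, t, v, hv, hd⟩ := exists_decomp (R * g)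
    have hR : R * R = 1 := by
      refine Units.ext (Matrix.ext fun i j => ?_)
      simp [R, mon_mul_apply, mon_apply, Matrix.one_apply]
    have hRR : ∀ i j, (R * u * R).1 i j = u.1 i.rev j.rev := fun i j => by
      show ((mon Fin.revPerm 1 : GL (Fin n) F).1 * u.1 * (mon Fin.revPerm 1 : GL (Fin n) F).1) i j = _
      have h := mul_mon_apply Fin.revPerm (1 : Fin n → Fˣ) ((mon Fin.revPerm 1).1 * u.1) i j.rev
      rw [Fin.revPerm_apply, Fin.rev_rev] at h
      rw [h, mon_mul_apply]; simp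
    have hl : R * u * R ∈ Pp := fun j i => by
      rw [hRR, uni_low hu]
      rw [Fin.lt_def, Fin.val_rev, Fin.val_rev, e1_inl_val, e1_inr_val]
      have := i.isLt; have := j.isLt; omega
    have hmon : R * mon π t = mon (Fin.revPerm.trans π) (fun i => 1 * t (Fin.revPerm i)) := mon_mul_mon _ _ _ _
    set π' := Fin.revPerm.trans π
    set t' := fun i => (1 : Fˣ) * t (Fin.revPerm i)
    have hg' : g = R * u * R * mon π' t' * v := by
      rw [← hmon, show R * u * R * (R * mon π t) * v = R * (u * (R * R) * mon π t * v) by group, hR, mul_one, ← hd,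
        ← mul_assoc, hR, one_mul]
    rw [hg', J_mul_right _ isClassFunction_ψU hv, J_mul_left (isClassFunction_infl _ hσ hα) _ hl]
    by_cases hsep : ∃ (c d : Fin n), c.val + 1 = d.val ∧ b ≤ (π'.symm c).val ∧ (π'.symm d).val < b
    · obtain ⟨c, d, hcd, hcI, hdI⟩ := hsep
      obtain ⟨w, hw⟩ := ψ0_ne F
      set x := π'.symm c with hx
      set y := π'.symm d with hy
      have hxy : x ≠ y := fun e => by rw [e] at hcI; omega
      let z : F := -w * t' x / t' y
      have hcd' : π' x = c ∧ π' y = d := ⟨π'.apply_symm_apply c, π'.apply_symm_apply d⟩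
      have hv' : tv (π' x) (π' y) (π'.injective.ne hxy) (z * t' y / t' x) ∈ Uni F n :=
        tv_mem _ _ (by rw [hcd'.1, hcd'.2, Fin.lt_def]; omega) _
      have hcomm := tv_mul_mon π' t' x y hxy z
      obtain ⟨i0, hi0⟩ : ∃ i, e1 hab (.inl i) = x := ⟨⟨x.val - b, by omega⟩, Fin.ext (by rw [e1_inl_val]; simp; omega)⟩
      obtain ⟨j0, hj0⟩ : ∃ j, e1 hab (.inr j) = y := ⟨⟨y.val, hdI⟩, Fin.ext (by rw [e1_inr_val])⟩
      have hP : tv x y hxy z ∈ Pp := fun j i => by
        rw [tv_apply, Matrix.one_apply_ne (by simp), zero_add, if_neg]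
        rintro ⟨h, -⟩
        rw [← hi0] at h
        simp at h
      have hp : ∀ (g : Pp), infl (e1 hab) σ α (⟨tv x y hxy z, hP⟩ * g) = infl (e1 hab) σ α g := by
        intro g
        have h1 : p1 (e1 hab) ⟨tv x y hxy z, hP⟩ = 1 := Units.ext (Matrix.ext fun i j => by
          rw [p1_apply, tv_apply, if_neg, add_zero, Units.val_one]
          · simp [Matrix.one_apply]
          · rintro ⟨-, h⟩
            rw [← hj0] at h; simp at h)
        have h2 : p2 (e1 hab) ⟨tv x y hxy z, hP⟩ = 1 := Units.ext (Matrix.ext fun i j => by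
          rw [p2_apply, tv_apply, if_neg, add_zero, Units.val_one]
          · simp [Matrix.one_apply]
          · rintro ⟨h, -⟩
            rw [← hi0] at h; simp at h)
        simp only [infl, map_mul, h1, h2, one_mul]
      have key : J (infl (e1 hab) σ α) (ψU F n) (mon π' t') =
          ψ0 F w * J (infl (e1 hab) σ α) (ψU F n) (mon π' t') := by
        conv_rhs => rw [J, Finset.mul_sum]
        rw [J]
        refine (Fintype.sum_equiv (Equiv.mulLeft (tv x y hxy z)) _ _ fun r => ?_).symm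
        have e2 : extendByZero Pp (infl (e1 hab) σ α) (tv x y hxy z * r) = extendByZero Pp (infl (e1 hab) σ α) r :=
          ext_congr _ _ (Pp.mul_mem_cancel_left hP) fun a' b' => by rw [← hp ⟨r, b'⟩]; rfl
        rw [Equiv.coe_mulLeft, e2,
          show (mon π' t')⁻¹ * (tv x y hxy z * r) * mon π' t' =
              tv (π' x) (π' y) (π'.injective.ne hxy) (z * t' y / t' x) * ((mon π' t')⁻¹ * r * mon π' t') by
            rw [show tv (π' x) (π' y) (π'.injective.ne hxy) (z * t' y / t' x) =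
              (mon π' t')⁻¹ * tv x y hxy z * mon π' t' by rw [mul_assoc, hcomm, inv_mul_cancel_left]]
            group,
          ext_ψU_mul hv', map_mul, sd_tv, if_pos (by rw [hcd'.1, hcd'.2]; exact hcd)]
        have hzw : z * t' y / t' x = -w := by
          have := (t' x).ne_zero; have := (t' y).ne_zero
          simp only [z]; field_simp
        rw [hzw, ← AddChar.map_neg_eq_conj, neg_neg]
        ring
      by_contra hne
      exact hw ((mul_eq_right₀ hne).mp key.symm)
    · push Not at hsep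
      exfalso
      have up : ∀ k : ℕ, ∀ c d : Fin n, c.val + k = d.val → b ≤ (π'.symm c).val → b ≤ (π'.symm d).val := by
        intro k
        induction k with
        | zero => intro c d h hc; rwa [show d = c from Fin.ext (by omega)]
        | succ k ih =>
          intro c d h hc
          refine ih ⟨c.val + 1, by omega⟩ d (by simp only; omega) ?_
          exact hsep c ⟨c.val + 1, by omega⟩ rfl hc
      have hge : ∀ x : Fin n, b ≤ x.val → b ≤ (π' x).val := by
        intro x hx
        by_contra hlt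
        have hsub : (Finset.Ici (π' x)).map π'.symm.toEmbedding ⊆
            Finset.Ici (⟨b, hx.trans_lt x.isLt⟩ : Fin n) := by
          intro y hy
          simp only [Finset.mem_map, Finset.mem_Ici] at hy
          obtain ⟨d, hd', rfl⟩ := hy
          rw [Finset.mem_Ici, Fin.le_def]
          exact up (d.val - (π' x).val) (π' x) d (by rw [Fin.le_def] at hd'; omega) (by simpa using hx)
        have := Finset.card_le_card hsub
        rw [Finset.card_map, Fin.card_Ici, Fin.card_Ici] at this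
        simp only at this
        omega
      have hlt : ∀ x : Fin n, x.val < b → (π' x).val < b := by
        intro x hx
        by_contra hge'
        let S := Finset.univ.filter fun z : Fin n => b ≤ z.val
        have hS : S.map π'.toEmbedding = S := Finset.eq_of_subset_of_card_le (fun y hy => by
          obtain ⟨z, hz, rfl⟩ := Finset.mem_map.mp hy
          exact Finset.mem_filter.mpr ⟨Finset.mem_univ _, hge z (Finset.mem_filter.mp hz).2⟩) (by simp)
        have : π' x ∈ S.map π'.toEmbedding := by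
          rw [hS]; exact Finset.mem_filter.mpr ⟨Finset.mem_univ _, by omega⟩
        simp only [Finset.mem_map, Equiv.coe_toEmbedding, π'.injective.eq_iff, exists_eq_right] at this
        have := (Finset.mem_filter.mp this).2
        omega
      have hm : mon π' t' ∈ Pp := fun j i => by
        rw [mon_apply, if_neg]
        intro e
        have := hlt (e1 hab (.inr j)) (by rw [e1_inr_val]; exact j.isLt)
        rw [e, e1_inl_val] at this
        omega
      refine hg (⟨R * u * R * mon π' t', Pp.mul_mem hl hm⟩, ⟨v, hv⟩) ?_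
      rw [hg']; simp [f]
  rw [← sum_param f _ (fun _ => (c1 : ℂ)⁻¹) (fun x => by
      show (c1 : ℂ)⁻¹ * (Nat.card {y : Pp × Uni F n // (y.1 : GL (Fin n) F) * 1 * y.2 = x.1 * 1 * x.2} : ℂ) = 1
      rw [card_fibre]; exact inv_mul_cancel₀ hc0)
    (fun _ _ _ => rfl) hzero]
  have hterm : ∀ x : Pp × Uni F n, J (infl (e1 hab) σ α) (ψU F n) (f x) * (c1 : ℂ)⁻¹ =
      classInner σ (Γ F a) * classInner α (Γ F b) := by
    intro x
    simp only [f]
    rw [J_mul_right _ isClassFunction_ψU x.2.2, J_mul_left (isClassFunction_infl _ hσ hα) _ x.1.2, hJ1, hinner hσ,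
      hinner hα, hc1]
    have h1 : (Nat.card (Uni F a) : ℂ) ≠ 0 := Nat.cast_ne_zero.mpr Nat.card_pos.ne'
    have h2 : (Nat.card (Uni F b) : ℂ) ≠ 0 := Nat.cast_ne_zero.mpr Nat.card_pos.ne'
    field_simp
  rw [Finset.sum_congr rfl fun x _ => hterm x, Finset.sum_const, Finset.card_univ, Fintype.card_prod,
    nsmul_eq_mul, Nat.cast_mul, ← Nat.card_eq_fintype_card, ← Nat.card_eq_fintype_card]
  have h1 : (Nat.card Pp : ℂ) ≠ 0 := Nat.cast_ne_zero.mpr Nat.card_pos.ne'
  have h2 : (Nat.card (Uni F n) : ℂ) ≠ 0 := Nat.cast_ne_zero.mpr Nat.card_pos.ne'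
  field_simp
  rfl

end

end CfsgLib.GLCusp
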