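/-
Cuspidal supports of generic characters of GL_n.
-/
import Cfsg.Agent.Lib.GLCusp.Norm
import Cfsg.Agent.Lib.TransposeForm

set_option autoImplicit false

namespace CfsgLib.GLCusp

open Cfsg CfsgLib.CharTheory Matrix
open scoped BigOperators ComplexConjugate Classical

noncomputable section

variable {F : Type*} [Field F] [Fintype F] [DecidableEq F] {n : ℕ}
variable {ι κ μ : Type*} [Fintype ι] [DecidableEq ι] [Fintype κ] [DecidableEq κ] [Fintype μ] [DecidableEq μ]

theorem isCharacter_prod (e : κ ⊕ μ ≃ ι) {σ : GL κ F → ℂ} {α : GL μ F → ℂ} (hσ : IsCharacter _ σ)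
    (hα : IsCharacter _ α) : IsCharacter _ (prod e σ α) :=
  isCharacter_indFun _ (isCharacter_infl e hσ hα)

theorem isIrr_infl (e : κ ⊕ μ ≃ ι) {σ : GL κ F → ℂ} {α : GL μ F → ℂ} (hσ : IsIrrCharacter _ σ)
    (hα : IsIrrCharacter _ α) : IsIrrCharacter (P (F := F) e) (infl e σ α) := by
  refine irr_of_char_norm_one (isCharacter_infl e (isCharacter_of_irr hσ) (isCharacter_of_irr hα)) ?_
  have h1 := classInner_irr_self hσ
  have h2 := classInner_irr_self hα
  rw [classInner] at h1 h2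
  rw [classInner, ← Equiv.sum_comp (parEquiv (F := F) e), Fintype.sum_prod_type]
  simp only [Fintype.sum_prod_type, infl_parEquiv, map_mul, Finset.sum_const, Finset.card_univ, nsmul_eq_mul]
  rw [card_P, Nat.card_prod, Nat.card_prod, Nat.cast_mul, Nat.cast_mul,
    Finset.sum_congr rfl fun A _ => Finset.sum_congr rfl fun D _ => show
      (Fintype.card (Matrix κ μ F) : ℂ) * (σ A * α D * (conj (σ A) * conj (α D))) =
        (Fintype.card (Matrix κ μ F) : ℂ) * ((σ A * conj (σ A)) * (α D * conj (α D))) by ring]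
  simp only [← Finset.mul_sum, ← Finset.sum_mul]
  rw [← Nat.card_eq_fintype_card]
  have hE : (Nat.card (Matrix κ μ F) : ℂ) ≠ 0 := Nat.cast_ne_zero.mpr Nat.card_pos.ne'
  calc _ = ((Nat.card (GL κ F) : ℂ)⁻¹ * ∑ A, σ A * conj (σ A)) *
        ((Nat.card (GL μ F) : ℂ)⁻¹ * ∑ D, α D * conj (α D)) := by field_simp
    _ = 1 := by rw [h1, h2, one_mul]

theorem coe_classInner_P (e : κ ⊕ μ ≃ ι) {χ : GL ι F → ℂ} (hχ : IsClassFunction _ χ) (σ : GL κ F → ℂ)
    (α : GL μ F → ℂ) :
    classInner χ (prod e σ α) = classInner (fun x : P (F := F) e => χ x) (infl e σ α) :=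
  frobenius_reciprocity' _ _ hχ

/-- A constituent of parabolic induction gives a nonzero constant term at the identity. -/
theorem H_one_ne_zero (e : κ ⊕ μ ≃ ι) {χ : GL ι F → ℂ} (hχ : IsCharacter _ χ) {σ : GL κ F → ℂ}
    (hσ : IsCharacter _ σ) {α : GL μ F → ℂ} (hα : IsIrrCharacter _ α) (h : classInner χ (prod e σ α) ≠ 0) :
    H e χ σ 1 ≠ 0 := by
  have hcf := isClassFunction_char hχ
  have hc : (Nat.card (P (F := F) e) : ℂ) ≠ 0 := Nat.cast_ne_zero.mpr Nat.card_pos.ne'
  choose k hk using fun δ : IrrCharacter (GL μ F) =>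
    classInner_char_nat hχ (isCharacter_prod e hσ (isCharacter_of_irr δ.2))
  choose d hd0 hd using fun δ : IrrCharacter (GL μ F) => irr_degree_pos δ.2
  have hco : ∀ δ : IrrCharacter (GL μ F), classInner (H e χ σ) (δ : GL μ F → ℂ) =
      (Nat.card (GL μ F) : ℂ)⁻¹ * Nat.card (P (F := F) e) * k δ := fun δ => by
    rw [← hk δ, inner_prod_eq e hcf, classInner, mul_assoc, ← mul_assoc (Nat.card (P (F := F) e) : ℂ),
      mul_inv_cancel₀ hc, one_mul]
  have hs := congrFun (eq_sum_irr (isClassFunction_H e hcf σ)) 1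
  simp only [Finset.sum_apply, Pi.smul_apply, smul_eq_mul, hco, hd, mul_assoc, ← Finset.mul_sum] at hs
  rw [hs]
  refine mul_ne_zero (inv_ne_zero (Nat.cast_ne_zero.mpr Nat.card_pos.ne')) (mul_ne_zero hc ?_)
  rw [hk ⟨α, hα⟩] at h
  have hpos : 0 < ∑ δ : IrrCharacter (GL μ F), k δ * d δ :=
    Finset.sum_pos' (fun δ _ => Nat.zero_le _) ⟨⟨α, hα⟩, Finset.mem_univ _,
      Nat.mul_pos (Nat.pos_of_ne_zero fun e => h (by rw [e, Nat.cast_zero])) (hd0 _)⟩
  exact_mod_cast hpos.ne'

/-- Sums over the kernel of the bottom projection. -/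
theorem sum_ker (e : κ ⊕ μ ≃ ι) (f : GL ι F → ℂ) [Fintype (p2 (F := F) e).ker] :
    ∑ x : (p2 (F := F) e).ker, f x.1.1 = ∑ A : GL κ F, ∑ E : Matrix κ μ F, f (mk e A 1 E) := by
  let ev : GL κ F × Matrix κ μ F → (p2 (F := F) e).ker := fun z =>
    ⟨parEquiv e (z.1, 1, z.2), MonoidHom.mem_ker.mpr (p2_parEquiv _ _ _ _)⟩
  have hb : Function.Bijective ev := by
    constructor
    · intro z w h
      have := (parEquiv e).injective (congrArg Subtype.val h)
      simp only [Prod.mk.injEq, true_and] at this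
      exact Prod.ext this.1 this.2
    · rintro ⟨x, hx⟩
      obtain ⟨⟨A, D, E⟩, rfl⟩ := (parEquiv e).surjective x
      rw [MonoidHom.mem_ker, p2_parEquiv] at hx
      subst hx
      exact ⟨(A, E), rfl⟩
  rw [← Fintype.sum_prod_type' (fun A E => f (mk e A 1 E))]
  exact (Fintype.sum_bijective ev hb _ _ fun z => rfl).symm

theorem inner_ker (e : κ ⊕ μ ≃ ι) (χ : GL ι F → ℂ) (σ : GL κ F → ℂ) [Fintype (p2 (F := F) e).ker] :
    classInner (fun x : (p2 (F := F) e).ker => χ x.1.1) (fun x => σ (p1 e x.1)) =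
      (Nat.card (p2 (F := F) e).ker : ℂ)⁻¹ * H e χ σ 1 := by
  rw [classInner, H]
  congr 1
  have := sum_ker e (fun g => χ g * conj (extendByZero (P e) (fun x => σ (p1 e x)) g))
  simp only [extendByZero_coe] at this
  rw [this]
  refine Finset.sum_congr rfl fun A _ => Finset.sum_congr rfl fun E _ => ?_
  rw [extendByZero_of_mem _ _ (mk_mem e _ _ _)]
  congr 2
  exact congrArg σ (p1_parEquiv e A 1 E)

/-- The restricted constant term. -/
def φc (e : κ ⊕ μ ≃ ι) (χ : GL ι F → ℂ) : GL κ F → ℂ := fun A => ∑ E : Matrix κ μ F, χ (mk e A 1 E)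

theorem isClassFunction_φc (e : κ ⊕ μ ≃ ι) {χ : GL ι F → ℂ} (hχ : IsClassFunction _ χ) :
    IsClassFunction (GL κ F) (φc e χ) := by
  intro A a
  refine Fintype.sum_equiv
    (⟨fun E => a⁻¹.1 * E, fun E => a.1 * E,
      fun E => by
        show a.1 * (a⁻¹.1 * E) = E
        rw [← Matrix.mul_assoc, ← Units.val_mul, mul_inv_cancel, Units.val_one, Matrix.one_mul],
      fun E => by
        show a⁻¹.1 * (a.1 * E) = E
        rw [← Matrix.mul_assoc, ← Units.val_mul, inv_mul_cancel, Units.val_one, Matrix.one_mul]⟩ :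
      Matrix κ μ F ≃ Matrix κ μ F) _ _ fun E => ?_
  show χ _ = χ (mk e A 1 (a⁻¹.1 * E))
  rw [← hχ (mk e A 1 (a⁻¹.1 * E)) (emb1 e a), ← map_inv]
  show χ _ = χ (mk e a 1 0 * _ * mk e a⁻¹ 1 0)
  rw [mk_mul, mk_mul]
  congr 1
  simp only [mul_one, Matrix.mul_zero, Matrix.zero_mul, add_zero, zero_add, Units.val_one, Matrix.mul_one]
  rw [← Matrix.mul_assoc, ← Units.val_mul, mul_inv_cancel, Units.val_one, Matrix.one_mul]

theorem classInner_φc (e : κ ⊕ μ ≃ ι) (χ : GL ι F → ℂ) (σ : GL κ F → ℂ) :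
    classInner (φc e χ) σ = (Nat.card (GL κ F) : ℂ)⁻¹ * H e χ σ 1 := by
  rw [classInner, H]
  simp only [φc, Finset.sum_mul]

/-- The splitting attached to a set of coordinates. -/
theorem exists_split (s : Fin n → Prop) :
    ∃ (b : ℕ) (e : Fin (Fintype.card {i // s i}) ⊕ Fin b ≃ Fin n), ∀ i, s (e (.inl i)) ∧ ∀ j, ¬ s (e (.inr j)) :=
  ⟨_, (Equiv.sumCongr (Fintype.equivFin {i // s i}).symm (Fintype.equivFin {i // ¬ s i}).symm).trans
    (Equiv.sumCompl s), fun i => ⟨by simpa using ((Fintype.equivFin {i // s i}).symm i).2,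
      fun j => by simpa using ((Fintype.equivFin {i // ¬ s i}).symm j).2⟩⟩

theorem sum_U_eq (e : κ ⊕ μ ≃ ι) (s : ι → Prop) (h1 : ∀ i, s (e (.inl i))) (h2 : ∀ j, ¬ s (e (.inr j)))
    [Fintype (U F s)] (f : GL ι F → ℂ) : ∑ u : U F s, f u = ∑ E : Matrix κ μ F, f (mk e 1 1 E) := by
  have hm : ∀ E : Matrix κ μ F, mk e 1 1 E ∈ U F s := by
    intro E a b hab
    obtain ⟨x, rfl⟩ := e.surjective a
    obtain ⟨y, rfl⟩ := e.surjective b
    rw [mk_apply]
    rcases x with i | i <;> rcases y with j | j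
    · simp [Matrix.one_apply]
    · exact absurd ⟨h1 i, h2 j⟩ hab
    · simp [Matrix.one_apply_ne]
    · simp [Matrix.one_apply]
  refine (Fintype.sum_bijective (fun E => (⟨mk e 1 1 E, hm E⟩ : U F s)) ⟨fun E E' h => ?_, fun u => ?_⟩ _ _
    fun E => rfl).symm
  · refine Matrix.ext fun i j => ?_
    have := congrArg (fun u : U F s => u.1.1 (e (.inl i)) (e (.inr j))) h
    simpa [mk_apply] using this
  · refine ⟨u.1.1.submatrix (e ∘ Sum.inl) (e ∘ Sum.inr), Subtype.ext (ext_blocks e fun x y => ?_)⟩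
    rw [mk_apply]
    rcases x with i | i <;> rcases y with j | j
    · rw [u.2 _ _ (fun h => h.2 (h1 j))]; simp [Matrix.one_apply]
    · rfl
    · rw [u.2 _ _ (fun h => h2 i h.1), Matrix.one_apply_ne (by simp)]; rfl
    · rw [u.2 _ _ (fun h => h2 i h.1)]; simp [Matrix.one_apply]

/-- Every character has a cuspidal first factor. -/
theorem exists_first {χ : GL (Fin n) F → ℂ} (hχ : IsIrrCharacter _ χ) (hn : 0 < n) :
    ∃ (a b : ℕ) (e : Fin a ⊕ Fin b ≃ Fin n) (σ : GL (Fin a) F → ℂ) (α : GL (Fin b) F → ℂ),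
      0 < a ∧ IsIrrCharacter _ σ ∧ Cusp σ ∧ IsIrrCharacter _ α ∧ classInner χ (prod e σ α) ≠ 0 := by
  have hch := isCharacter_of_irr hχ
  have hcf := isClassFunction_irr hχ
  let Q : ℕ → Prop := fun a => ∃ s : Fin n → Prop, Fintype.card {i // s i} = a ∧ (∃ i, s i) ∧
    ∑ u : U F s, χ u ≠ 0
  have hex : ∃ a, Q a := by
    refine ⟨_, fun _ => True, rfl, ⟨⟨0, hn⟩, trivial⟩, ?_⟩
    rw [Finset.sum_eq_single (1 : U F fun _ : Fin n => True)]
    · exact irr_ne_zero hχ
    · intro u _ hu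
      refine absurd (Subtype.ext (Units.ext (Matrix.ext fun i j => ?_))) hu
      exact u.2 i j fun h => h.2 trivial
    · simp
  obtain ⟨s, hsa, ⟨i0, hi0⟩, hs⟩ := Nat.find_spec hex
  obtain ⟨b, e, he⟩ := exists_split s
  have ha : 0 < Fintype.card {i // s i} := Fintype.card_pos_iff.mpr ⟨⟨i0, hi0⟩⟩
  have hes : ∀ j, ¬ s (e (.inr j)) := fun j => (he ⟨0, ha⟩).2 j
  rw [sum_U_eq e s (fun i => (he i).1) hes] at hs
  have hφ0 : φc e χ ≠ 0 := fun h0 => hs (congrFun h0 1)
  obtain ⟨σ, hσ, hne⟩ := exists_constituent (isClassFunction_φc e hcf) hφ0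
  rw [classInner_φc] at hne
  obtain ⟨α, hα, hα'⟩ := exists_prod_of_H_ne_zero e hcf σ
    (fun h0 => right_ne_zero_of_mul hne (congrFun h0 1))
  refine ⟨_, b, e, σ, α, ha, hσ, ?_, hα, hα'⟩
  intro s' hs1 hs2 inst
  -- the constant term has nonnegative coefficients
  let Q2 := (p2 (F := F) e).ker
  choose k hk using fun δ : IrrCharacter (GL (Fin (Fintype.card {i // s i})) F) =>
    classInner_char_nat (isCharacter_comp hch ((P (F := F) e).subtype.comp Q2.subtype))
      (isCharacter_comp (isCharacter_of_irr δ.2) ((p1 e).comp Q2.subtype))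
  have hcoef : ∀ δ : IrrCharacter (GL (Fin (Fintype.card {i // s i})) F),
      classInner (φc e χ) (δ : GL (Fin (Fintype.card {i // s i})) F → ℂ) =
        ((Nat.card (GL (Fin (Fintype.card {i // s i})) F) : ℂ)⁻¹ * Nat.card Q2) * k δ := fun δ => by
    have h2 := inner_ker e χ (δ : GL (Fin (Fintype.card {i // s i})) F → ℂ)
    rw [show classInner (fun x : Q2 => χ x.1.1) (fun x => (δ : GL (Fin (Fintype.card {i // s i})) F → ℂ) (p1 e x.1)) = (k δ : ℂ) from hk δ] at h2
    rw [classInner_φc, h2, mul_assoc, ← mul_assoc (Nat.card Q2 : ℂ),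
      mul_inv_cancel₀ (Nat.cast_ne_zero.mpr Nat.card_pos.ne'), one_mul]
  choose l hl using fun δ : IrrCharacter (GL (Fin (Fintype.card {i // s i})) F) =>
    classInner_char_nat (isCharacter_comp (isCharacter_of_irr δ.2) (U F s').subtype)
      (isCharacter_one (G := U F s'))
  have hl' : ∀ δ : IrrCharacter (GL (Fin (Fintype.card {i // s i})) F),
      ∑ u : U F s', (δ : GL (Fin (Fintype.card {i // s i})) F → ℂ) u = (Nat.card (U F s') : ℂ) * l δ := fun δ => by
    rw [← hl δ, classInner, mul_inv_cancel_left₀ (Nat.cast_ne_zero.mpr Nat.card_pos.ne')]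
    exact Finset.sum_congr rfl fun u _ => by simp
  -- the refined radical kills the constant term
  have hzero : ∑ u : U F s', φc e χ u = 0 := by
    let s'' : Fin n → Prop := fun z => ∃ i, s' i ∧ e (.inl i) = z
    obtain ⟨i1, hi1⟩ := hs1
    obtain ⟨i2, hi2⟩ := hs2
    have hR : ∑ u : U F s'', χ u = 0 := by
      by_contra hne'
      refine Nat.find_min hex (m := Fintype.card {z // s'' z}) ?_
        (show Q (Fintype.card {z // s'' z}) from ⟨s'', by convert rfl, ⟨_, i1, hi1, rfl⟩, hne'⟩)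
      rw [← hsa]
      refine Fintype.card_lt_of_injective_of_notMem
        (fun z : {z // s'' z} => (⟨z.1, by obtain ⟨i, -, hi⟩ := z.2; rw [← hi]; exact (he i).1⟩ : {i // s i}))
        (fun z w h => Subtype.ext (congrArg (fun t : {i // s i} => t.1) h))
        (b := ⟨e (.inl i2), (he i2).1⟩) ?_
      rintro ⟨⟨z, i, hi, hz⟩, h⟩
      have h' := congrArg (fun t : {i // s i} => t.1) h
      simp only at h'
      rw [← hz] at h'
      exact hi2 (Sum.inl_injective (e.injective h') ▸ hi)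
    -- elements of the radical in block form
    have hblock : ∀ r : U F s'', ∃ (u0 : U F s') (E0 : Matrix _ (Fin b) F), (r : GL (Fin n) F) = mk e u0 1 E0 := by
      intro r
      have hrP : (r : GL (Fin n) F) ∈ P e := fun j i => by
        rw [r.2 _ _ ?_, Matrix.one_apply_ne (by simp)]
        rintro ⟨⟨k, -, hk⟩, -⟩
        simp at hk
      obtain ⟨⟨A, D, E⟩, hx⟩ := (parEquiv e).surjective ⟨_, hrP⟩
      have hx' : (r : GL (Fin n) F) = mk e A D E := (congrArg Subtype.val hx).symm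
      have hD : D = 1 := Units.ext (Matrix.ext fun i j => by
        have := mk_apply e A D E (.inr i) (.inr j)
        rw [← hx', r.2 _ _ ?_, Matrix.fromBlocks_apply₂₂] at this
        · rw [← this]; simp [Matrix.one_apply]
        · rintro ⟨⟨k, -, hk⟩, -⟩
          simp at hk)
      subst hD
      refine ⟨⟨A, fun i j hij => ?_⟩, E, hx'⟩
      have := mk_apply e A 1 E (.inl i) (.inl j)
      rw [← hx', r.2 _ _ ?_, Matrix.fromBlocks_apply₁₁] at this
      · rw [← this]; simp [Matrix.one_apply]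
      · rintro ⟨⟨k, hk', hk⟩, hj⟩
        refine hij ⟨by rw [← Sum.inl_injective (e.injective hk)]; exact hk', fun h => hj ⟨j, h, rfl⟩⟩
    have key : ∀ r : U F s'', ∑ u : U F s', φc e χ u =
        ∑ u : U F s', ∑ E : Matrix (Fin (Fintype.card {i // s i})) (Fin b) F,
          χ (mk e (u : GL (Fin (Fintype.card {i // s i})) F) 1 E * (r : GL (Fin n) F)) := by
      intro r
      obtain ⟨u0, E0, hr⟩ := hblock r
      refine (Fintype.sum_equiv (Equiv.mulRight u0) _ _ fun u => ?_).symm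
      refine Fintype.sum_equiv (Equiv.addLeft ((u : GL _ F).1 * E0)) _ _ fun E => ?_
      rw [hr, mk_mul, mul_one, Units.val_one, Matrix.mul_one]
      rfl
    have : (Fintype.card (U F s'') : ℂ) * ∑ u : U F s', φc e χ u = 0 := by
      rw [← nsmul_eq_mul, ← Finset.card_univ, ← Finset.sum_const, Finset.sum_congr rfl fun r _ => key r,
        Finset.sum_comm]
      refine Finset.sum_eq_zero fun u _ => ?_
      rw [Finset.sum_comm]
      exact Finset.sum_eq_zero fun E _ => sum_shift_eq_zero hch _ hR _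
    exact (mul_eq_zero.mp this).resolve_left (Nat.cast_ne_zero.mpr Fintype.card_ne_zero)
  rw [eq_sum_irr (isClassFunction_φc e hcf)] at hzero
  simp only [Finset.sum_apply, Pi.smul_apply, smul_eq_mul] at hzero
  rw [Finset.sum_comm] at hzero
  simp only [← Finset.mul_sum, hl', hcoef] at hzero
  set c0 := (Nat.card (GL (Fin (Fintype.card {i // s i})) F) : ℂ)⁻¹ * Nat.card Q2 with hc0
  have hc0' : c0 * (Nat.card (U F s') : ℂ) ≠ 0 := mul_ne_zero (mul_ne_zero
    (inv_ne_zero (Nat.cast_ne_zero.mpr Nat.card_pos.ne')) (Nat.cast_ne_zero.mpr Nat.card_pos.ne'))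
    (Nat.cast_ne_zero.mpr Nat.card_pos.ne')
  have hz : ((∑ δ, k δ * l δ : ℕ) : ℂ) = 0 := by
    refine (mul_eq_zero.mp (Eq.trans ?_ hzero)).resolve_left hc0'
    rw [Nat.cast_sum, Finset.mul_sum]
    refine Finset.sum_congr rfl fun δ _ => ?_
    push_cast; ring
  have hz' := (Finset.sum_eq_zero_iff.mp (Nat.cast_eq_zero.mp hz)) ⟨σ, hσ⟩ (Finset.mem_univ _)
  have hkσ : k ⟨σ, hσ⟩ ≠ 0 := fun h0 => hne (by
    rw [← classInner_φc, hcoef ⟨σ, hσ⟩, h0, Nat.cast_zero, mul_zero])
  rw [(Subsingleton.elim inst _ : inst = _), hl' ⟨σ, hσ⟩, (Nat.mul_eq_zero.mp hz').resolve_left hkσ, Nat.cast_zero,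
    mul_zero]

/-! ### Swapping the factors -/

/-- Transpose inverse. -/
def ti (g : GL ι F) : GL ι F where
  val := g⁻¹.1.transpose
  inv := g.1.transpose
  val_inv := by rw [← Matrix.transpose_mul, ← Units.val_mul, mul_inv_cancel]; simp
  inv_val := by rw [← Matrix.transpose_mul, ← Units.val_mul, inv_mul_cancel]; simp

theorem ti_ti (g : GL ι F) : ti (ti g) = g := by
  refine Units.ext ?_
  show (g.1.transpose).transpose = _
  rw [Matrix.transpose_transpose]

theorem char_ti {χ : GL (Fin n) F → ℂ} (hχ : IsCharacter _ χ) (g : GL (Fin n) F) : χ (ti g) = conj (χ g) := by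
  obtain ⟨c, hc⟩ := CfsgLib.TransposeForm.isConj_transpose (g⁻¹).1
  have h1 : ti g = c * g⁻¹ * c⁻¹ := by
    rw [eq_mul_inv_iff_mul_eq]
    exact Units.ext hc.eq.symm
  rw [h1, isClassFunction_char hχ, char_apply_inv hχ]

theorem inner_swap {a b : ℕ} (e : Fin a ⊕ Fin b ≃ Fin n) {χ : GL (Fin n) F → ℂ} (hχ : IsCharacter _ χ)
    {σ : GL (Fin a) F → ℂ} {α : GL (Fin b) F → ℂ} (hσ : IsCharacter _ σ) (hα : IsCharacter _ α) :
    classInner χ (prod ((Equiv.sumComm _ _).trans e) α σ) = conj (classInner χ (prod e σ α)) := by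
  set e' := (Equiv.sumComm (Fin b) (Fin a)).trans e
  have hm : ∀ x : GL (Fin n) F, x ∈ P e → ti x ∈ P e' := fun x hx j i => (P e).inv_mem hx i j
  have hm' : ∀ x : GL (Fin n) F, x ∈ P e' → ti x ∈ P e := fun x hx j i => (P e').inv_mem hx i j
  rw [coe_classInner_P _ (isClassFunction_char hχ), coe_classInner_P _ (isClassFunction_char hχ), classInner,
    classInner, map_mul, map_inv₀, Complex.conj_natCast, map_sum]
  have hcard : Nat.card (P (F := F) e') = Nat.card (P (F := F) e) := by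
    rw [card_P, card_P, Nat.card_prod, Nat.card_prod, Nat.card_prod, Nat.card_prod,
      Nat.card_congr (⟨Matrix.transpose, Matrix.transpose, fun E => Matrix.transpose_transpose E,
        fun E => Matrix.transpose_transpose E⟩ : Matrix (Fin b) (Fin a) F ≃ Matrix (Fin a) (Fin b) F)]
    ring
  rw [hcard]
  congr 1
  refine (Fintype.sum_equiv
    (⟨fun x => ⟨ti x, hm x x.2⟩, fun x => ⟨ti x, hm' x x.2⟩, fun x => Subtype.ext (ti_ti _),
      fun x => Subtype.ext (ti_ti _)⟩ : P (F := F) e ≃ P (F := F) e') _ _ fun x => ?_).symm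
  show conj (χ x * conj (infl e σ α x)) = χ (ti x) * conj (infl e' α σ ⟨ti x, hm x x.2⟩)
  have h1 : p1 e' ⟨ti x, hm x x.2⟩ = ti (p2 e x) := Units.ext (Matrix.ext fun i j => by
    show x.1⁻¹.1 (e (.inr j)) (e (.inr i)) = ((p2 e x)⁻¹).1 j i
    rw [← map_inv]; rfl)
  have h2 : p2 e' ⟨ti x, hm x x.2⟩ = ti (p1 e x) := Units.ext (Matrix.ext fun i j => by
    show x.1⁻¹.1 (e (.inl j)) (e (.inl i)) = ((p1 e x)⁻¹).1 j i
    rw [← map_inv]; rfl)
  simp only [infl, h1, h2, char_ti hχ, char_ti hσ, char_ti hα, map_mul, Complex.conj_conj]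
  ring

/-- A first factor of a second factor is a first factor. -/
theorem first_trans {a b d c : ℕ} (e : Fin a ⊕ Fin b ≃ Fin n) (f : Fin d ⊕ Fin c ≃ Fin b)
    {χ : GL (Fin n) F → ℂ} (hχ : IsIrrCharacter _ χ) {σ : GL (Fin a) F → ℂ} (hσ : IsIrrCharacter _ σ)
    {α : GL (Fin b) F → ℂ} (hα : IsIrrCharacter _ α) (h : classInner χ (prod e σ α) ≠ 0)
    {τ : GL (Fin d) F → ℂ} (hτ : IsIrrCharacter _ τ) {γ : GL (Fin c) F → ℂ} (hγ : IsIrrCharacter _ γ)
    (h' : classInner α (prod f τ γ) ≠ 0) :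
    ∃ (b' : ℕ) (e'' : Fin d ⊕ Fin b' ≃ Fin n) (δ : GL (Fin b') F → ℂ),
      IsIrrCharacter _ δ ∧ classInner χ (prod e'' τ δ) ≠ 0 := by
  have hch := isCharacter_of_irr hχ
  set e' := (Equiv.sumComm (Fin b) (Fin a)).trans e with he'
  have hsw : classInner χ (prod e' α σ) ≠ 0 := by
    rw [inner_swap e hch (isCharacter_of_irr hσ) (isCharacter_of_irr hα)]
    exact fun h0 => h (by simpa using congrArg conj h0)
  rw [coe_classInner_P _ (isClassFunction_irr hχ)] at hsw
  let g : Fin c ⊕ Fin a ≃ Fin (c + a) := finSumFinEquiv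
  let e'' : Fin d ⊕ Fin (c + a) ≃ Fin n :=
    (Equiv.sumCongr (Equiv.refl _) g.symm).trans ((Equiv.sumAssoc _ _ _).symm.trans
      ((Equiv.sumCongr f (Equiv.refl _)).trans e'))
  have hel : ∀ i, e'' (.inl i) = e' (.inl (f (.inl i))) := fun i => by simp [e'']
  have her : ∀ z : Fin c ⊕ Fin a, e'' (.inr (g z)) = e' (Sum.map (fun k => f (.inr k)) id z) := fun z => by
    rcases z with z | z <;> simp [e'']
  refine ⟨c + a, e'', ?_⟩
  let Q := (p2 (F := F) e'').ker
  have hQ : ∀ x : Q, ∃ (A : GL (Fin d) F) (E : Matrix (Fin d) (Fin (c + a)) F), x.1.1 = mk e'' A 1 E := by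
    rintro ⟨x, hx⟩
    obtain ⟨⟨A, D, E⟩, rfl⟩ := (parEquiv e'').surjective x
    rw [MonoidHom.mem_ker, p2_parEquiv] at hx
    subst hx
    exact ⟨A, E, rfl⟩
  have hval : ∀ (A : GL (Fin d) F) (E : Matrix (Fin d) (Fin (c + a)) F),
      ∃ hm : mk e'' A 1 E ∈ P e', p1 e' ⟨_, hm⟩ = mk f A 1 (E.submatrix id (fun k => g (.inl k))) ∧
        p2 e' ⟨_, hm⟩ = 1 := by
    intro A E
    have hrow : ∀ (k : Fin (c + a)) (z : Fin d ⊕ Fin (c + a)),
        (mk e'' A 1 E).1 (e'' (.inr k)) (e'' z) = (1 : Matrix _ _ F) (Sum.inr k : Fin d ⊕ Fin (c + a)) z := by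
      intro k z
      rw [mk_apply]
      rcases z with z | z <;> simp [Matrix.one_apply]
    have hm : mk e'' A 1 E ∈ P e' := fun j i => by
      have h1 : e' (.inr j) = e'' (.inr (g (.inr j))) := (her (.inr j)).symm
      obtain ⟨z, rfl⟩ := f.surjective i
      rcases z with z | z
      · rw [h1, ← hel, hrow]; simp
      · rw [h1, show e' (.inl (f (.inr z))) = e'' (.inr (g (.inl z))) from (her (.inl z)).symm, hrow]
        simp [Matrix.one_apply]
    refine ⟨hm, Units.ext (Matrix.ext fun i j => ?_), Units.ext (Matrix.ext fun i j => ?_)⟩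
    · obtain ⟨z, rfl⟩ := f.surjective i
      obtain ⟨w, rfl⟩ := f.surjective j
      rw [p1_apply, mk_apply]
      have hz : ∀ z, e' (.inl (f z)) = e'' (Sum.map id (fun k => g (.inl k)) z) := fun z => by
        rcases z with z | z
        · exact (hel z).symm
        · exact (her (.inl z)).symm
      show (mk e'' A 1 E).1 (e' (.inl (f z))) (e' (.inl (f w))) = _
      rw [hz, hz, mk_apply]
      rcases z with z | z <;> rcases w with w | w <;> simp [Matrix.one_apply]
    · rw [p2_apply]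
      show (mk e'' A 1 E).1 (e' (.inr i)) (e' (.inr j)) = _
      rw [show e' (.inr i) = e'' (.inr (g (.inr i))) from (her (.inr i)).symm,
        show e' (.inr j) = e'' (.inr (g (.inr j))) from (her (.inr j)).symm, hrow]
      simp [Matrix.one_apply]
  let j : Q →* P (F := F) e' :=
    { toFun := fun x => ⟨x.1.1, by
        obtain ⟨A, E, hx⟩ := hQ x
        rw [hx]; exact (hval A E).choose⟩
      map_one' := rfl
      map_mul' := fun _ _ => rfl }
  have hres : classInner (fun x : Q => infl e' α σ (j x)) (fun x : Q => τ (p1 e'' x.1)) ≠ 0 := by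
    rw [classInner]
    refine mul_ne_zero (inv_ne_zero (Nat.cast_ne_zero.mpr Nat.card_pos.ne')) ?_
    have hs := sum_ker e'' (fun x => extendByZero (P e') (infl e' α σ) x *
      conj (extendByZero (P e'') (fun x => τ (p1 e'' x)) x))
    rw [Finset.sum_congr rfl fun x _ => show infl e' α σ (j x) * conj (τ (p1 e'' x.1)) =
      extendByZero (P e') (infl e' α σ) x.1.1 * conj (extendByZero (P e'') (fun x => τ (p1 e'' x)) x.1.1) by
      rw [extendByZero_coe, ← extendByZero_coe (P e') (infl e' α σ) (j x)]; rfl, hs]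
    have hterm : ∀ A E, extendByZero (P e') (infl e' α σ) (mk e'' A 1 E) *
        conj (extendByZero (P e'') (fun x => τ (p1 e'' x)) (mk e'' A 1 E)) =
          σ 1 * (α (mk f A 1 (E.submatrix id (fun k => g (.inl k)))) * conj (τ A)) := by
      intro A E
      obtain ⟨hm, h1, h2⟩ := hval A E
      rw [extendByZero_of_mem _ _ hm, extendByZero_of_mem _ _ (mk_mem e'' _ _ _), infl, h1, h2]
      rw [show p1 e'' ⟨mk e'' A 1 E, mk_mem e'' _ _ _⟩ = A from p1_parEquiv e'' A 1 E]
      ring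
    let sp : Matrix (Fin d) (Fin c) F × Matrix (Fin d) (Fin a) F ≃ Matrix (Fin d) (Fin (c + a)) F :=
      { toFun := fun z => (Matrix.fromCols z.1 z.2).submatrix id g.symm
        invFun := fun E => (E.submatrix id (fun k => g (.inl k)), E.submatrix id (fun k => g (.inr k)))
        left_inv := fun z => by
          refine Prod.ext ?_ ?_ <;> ext i k <;> simp
        right_inv := fun E => by
          ext i k
          obtain ⟨k, rfl⟩ := g.surjective k
          rcases k with k | k <;> simp }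
    have hsum : ∑ A : GL (Fin d) F, ∑ E, σ 1 *
        (α (mk f A 1 ((E : Matrix (Fin d) (Fin (c + a)) F).submatrix id (fun k => g (.inl k)))) * conj (τ A)) =
        σ 1 * ((Fintype.card (Matrix (Fin d) (Fin a) F) : ℂ) * H f α τ 1) := by
      rw [H, Finset.mul_sum, Finset.mul_sum]
      refine Finset.sum_congr rfl fun A _ => ?_
      rw [← Equiv.sum_comp sp, Fintype.sum_prod_type, Finset.mul_sum, Finset.mul_sum]
      refine Finset.sum_congr rfl fun E1 _ => ?_
      rw [Finset.sum_congr rfl fun E2 _ => by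
        rw [show ((sp (E1, E2)).submatrix id fun k => g (.inl k)) = E1 from congrArg Prod.fst
          (sp.symm_apply_apply (E1, E2))]]
      rw [Finset.sum_const, Finset.card_univ, nsmul_eq_mul]
      ring
    rw [Finset.sum_congr rfl fun A _ => Finset.sum_congr rfl fun E _ => hterm A E, hsum]
    exact mul_ne_zero (irr_ne_zero hσ) (mul_ne_zero (Nat.cast_ne_zero.mpr Fintype.card_ne_zero)
      (H_one_ne_zero f (isCharacter_of_irr hα) (isCharacter_of_irr hτ) hγ h'))
  have := inner_res_ne_zero j (isCharacter_comp hch (P (F := F) e').subtype) (isIrr_infl e' hα hσ) hsw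
    (isCharacter_comp (isCharacter_of_irr hτ) ((p1 e'').comp Q.subtype)) hres
  have h3 : classInner (fun x : Q => χ x.1.1) (fun x => τ (p1 e'' x.1)) ≠ 0 := this
  rw [inner_ker] at h3
  exact exists_prod_of_H_ne_zero e'' (isClassFunction_irr hχ) τ
    fun h0 => right_ne_zero_of_mul h3 (congrFun h0 1)

/-! ### Generic characters -/

theorem gen_constituent {G : GL (Fin n) F → ℂ} (hG : IsCharacter _ G) {χ : GL (Fin n) F → ℂ}
    (hχ : IsIrrCharacter _ χ) (h : classInner χ G ≠ 0) (hg : classInner χ (Γ F n) ≠ 0) :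
    classInner G (Γ F n) ≠ 0 := by
  refine inner_res_ne_zero (MonoidHom.id _) hG hχ ?_ isCharacter_Γ hg
  rw [← classInner_comm]
  exact fun h0 => h (by simpa using congrArg conj h0)

theorem gen_factor {a b : ℕ} (e : Fin a ⊕ Fin b ≃ Fin n) {σ : GL (Fin a) F → ℂ} {α : GL (Fin b) F → ℂ}
    (hσ : IsCharacter _ σ) (hα : IsCharacter _ α) {χ : GL (Fin n) F → ℂ} (hχ : IsIrrCharacter _ χ)
    (h : classInner χ (prod e σ α) ≠ 0) (hg : classInner χ (Γ F n) ≠ 0) :
    classInner σ (Γ F a) ≠ 0 ∧ classInner α (Γ F b) ≠ 0 := by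
  have := gen_constituent (isCharacter_prod e hσ hα) hχ h hg
  rw [inner_prod_Γ e (isClassFunction_char hσ) (isClassFunction_char hα)] at this
  exact ⟨left_ne_zero_of_mul this, right_ne_zero_of_mul this⟩

theorem gen_unique {a b : ℕ} (e : Fin a ⊕ Fin b ≃ Fin n) {σ : GL (Fin a) F → ℂ} {α : GL (Fin b) F → ℂ}
    (hσ : IsIrrCharacter _ σ) (hα : IsIrrCharacter _ α) {χ χ' : GL (Fin n) F → ℂ} (hχ : IsIrrCharacter _ χ)
    (hχ' : IsIrrCharacter _ χ') (h : classInner χ (prod e σ α) ≠ 0) (h' : classInner χ' (prod e σ α) ≠ 0)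
    (hg : classInner χ (Γ F n) ≠ 0) (hg' : classInner χ' (Γ F n) ≠ 0) : χ = χ' := by
  by_contra hne
  have hp := isCharacter_prod e (isCharacter_of_irr hσ) (isCharacter_of_irr hα)
  obtain ⟨h1, h2⟩ := gen_factor e (isCharacter_of_irr hσ) (isCharacter_of_irr hα) hχ h hg
  have hone : ∀ {m : ℕ} {θ : GL (Fin m) F → ℂ}, IsIrrCharacter _ θ → classInner θ (Γ F m) ≠ 0 →
      classInner θ (Γ F m) = 1 := fun hθ h0 => (inner_Γ_irr hθ).resolve_left h0
  have hval : classInner (prod e σ α) (Γ F n) = 1 := by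
    rw [inner_prod_Γ e (isClassFunction_irr hσ) (isClassFunction_irr hα), hone hσ h1, hone hα h2, one_mul]
  have hc : classInner (prod e σ α) χ ≠ 0 := by
    rw [← classInner_comm]; exact fun h0 => h (by simpa using congrArg conj h0)
  have hc' : classInner χ' (prod e σ α - χ) ≠ 0 := by
    rw [classInner_sub_right, classInner_irr_ne hχ' hχ (Ne.symm hne), sub_zero]; exact h'
  have := gen_constituent (isCharacter_sub_of_inner hp hχ hc) hχ' hc' hg'
  rw [classInner_sub_left, hval, hone hχ hg, sub_self] at this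
  exact this rfl

/-- Cuspidal irreducible characters of positive degree. -/
def Item (F : Type*) [Field F] [Fintype F] [DecidableEq F] :=
  Σ d : ℕ, {χ : GL (Fin d) F → ℂ // 0 < d ∧ IsIrrCharacter _ χ ∧ Cusp χ}

theorem Item.generic (I : Item F) : classInner I.2.1 (Γ F I.1) ≠ 0 := fun h0 => by
  have := degree_cusp (isCharacter_of_irr I.2.2.2.1) I.2.2.2.2 I.2.2.1
  rw [h0, mul_zero] at this
  exact irr_ne_zero I.2.2.2.1 this

/-- Cuspidal supports. -/
inductive Supp : {n : ℕ} → (GL (Fin n) F → ℂ) → Multiset (Item F) → Prop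
  | nil {χ : GL (Fin 0) F → ℂ} : Supp χ 0
  | step {n b : ℕ} {χ : GL (Fin n) F → ℂ} (I : Item F) (e : Fin I.1 ⊕ Fin b ≃ Fin n) {α : GL (Fin b) F → ℂ}
      {S : Multiset (Item F)} (hα : IsIrrCharacter _ α) (hS : Supp α S)
      (h : classInner χ (prod e I.2.1 α) ≠ 0) : Supp χ (I ::ₘ S)

/-- Total size. -/
def tot (S : Multiset (Item F)) : ℕ := (S.map (fun I => I.1)).sum

theorem Supp.tot_eq {χ : GL (Fin n) F → ℂ} {S : Multiset (Item F)} (h : Supp χ S) : tot S = n := by
  induction h with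
  | nil => rfl
  | @step n b _ I e _ _ _ _ _ ih =>
    have : I.1 + b = n := by simpa using Fintype.card_congr e
    simp only [tot, Multiset.map_cons, Multiset.sum_cons] at ih ⊢
    omega

theorem supp_exists : ∀ (n : ℕ) (χ : GL (Fin n) F → ℂ), IsIrrCharacter _ χ → ∃ S, Supp χ S := by
  intro n
  induction n using Nat.strong_induction_on with
  | _ n IH =>
    intro χ hχ
    rcases Nat.eq_zero_or_pos n with rfl | hn
    · exact ⟨0, .nil⟩
    · obtain ⟨a, b, e, σ, α, ha, hσ, hc, hα, h⟩ := exists_first hχ hn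
      have hab : a + b = n := by simpa using Fintype.card_congr e
      obtain ⟨S, hS⟩ := IH b (by omega) α hα
      exact ⟨_, .step ⟨a, σ, ha, hσ, hc⟩ e hα hS h⟩

theorem Supp.cases' {χ : GL (Fin n) F → ℂ} {S : Multiset (Item F)} (h : Supp χ S) (hn : 0 < n) :
    ∃ (I : Item F) (b : ℕ) (e : Fin I.1 ⊕ Fin b ≃ Fin n) (α : GL (Fin b) F → ℂ) (S' : Multiset (Item F)),
      IsIrrCharacter _ α ∧ Supp α S' ∧ classInner χ (prod e I.2.1 α) ≠ 0 ∧ S = I ::ₘ S' ∧ b < n := by
  cases h with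
  | nil => omega
  | @step _ b _ I e _ _ hα hS h =>
    refine ⟨I, b, e, _, _, hα, hS, h, rfl, ?_⟩
    have h1 : I.1 + b = n := by simpa using Fintype.card_congr e
    have := I.2.2.1
    omega

theorem supp_unique : ∀ (n : ℕ) (χ : GL (Fin n) F → ℂ), IsIrrCharacter _ χ → classInner χ (Γ F n) ≠ 0 →
    ∀ S S', Supp χ S → Supp χ S' → S = S' := by
  intro n
  induction n using Nat.strong_induction_on with
  | _ n IH =>
    intro χ hχ hg S S' hS hS'
    rcases Nat.eq_zero_or_pos n with rfl | hn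
    · have key : ∀ T : Multiset (Item F), Supp χ T → T = 0 := fun T hT => by
        by_contra hne
        obtain ⟨I, hI⟩ := Multiset.exists_mem_of_ne_zero hne
        have h0 := hT.tot_eq
        have h1 : I.1 ≤ tot T := Multiset.single_le_sum (fun _ _ => Nat.zero_le _) _ (Multiset.mem_map_of_mem _ hI)
        have := I.2.2.1
        omega
      rw [key S hS, key S' hS']
    obtain ⟨I, b, e, α, T, hα, hT, h, rfl, hb⟩ := hS.cases' hn
    obtain ⟨I', b', e', β, T', hβ, hT', h', rfl, hb'⟩ := hS'.cases' hn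
    have hI := I.2.2.2.1
    have hI' := I'.2.2.2.1
    have hgα := (gen_factor e (isCharacter_of_irr hI) (isCharacter_of_irr hα) hχ h hg).2
    have hgβ := (gen_factor e' (isCharacter_of_irr hI') (isCharacter_of_irr hβ) hχ h' hg).2
    have hpp : classInner (prod e I.2.1 α) (prod e' I'.2.1 β) ≠ 0 :=
      inner_res_ne_zero (MonoidHom.id _) (isCharacter_prod e (isCharacter_of_irr hI) (isCharacter_of_irr hα)) hχ
        (by rw [← classInner_comm]; exact fun h0 => h (by simpa using congrArg conj h0))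
        (isCharacter_prod e' (isCharacter_of_irr hI') (isCharacter_of_irr hβ)) h'
    rcases swap_lemma e e' hI hα hI' hβ I.2.2.2.2 I'.2.2.2.2 I.2.2.1 I'.2.2.1 hpp with
      ⟨ha, hbb, hστ, hαβ⟩ | ⟨c, φ, φ', γ, hγ, h1, h2⟩
    · obtain ⟨d, σ, hσ⟩ := I
      obtain ⟨d', σ', hσ'⟩ := I'
      simp only at ha hbb hστ hαβ
      subst ha hbb
      obtain rfl := eq_of_heq hστ
      obtain rfl := eq_of_heq hαβ
      rw [IH b hb α hα hgα T T' hT hT']
    · obtain ⟨R, hR⟩ := supp_exists c γ hγ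
      have e1 := IH b hb α hα hgα T _ hT (.step I' φ hγ hR h1)
      have e2 := IH b' hb' β hβ hgβ T' _ hT' (.step I φ' hγ hR h2)
      rw [e1, e2, Multiset.cons_swap]

theorem supp_mem_first {χ : GL (Fin n) F → ℂ} {S : Multiset (Item F)} (hS : Supp χ S) :
    IsIrrCharacter _ χ → ∀ I ∈ S, ∃ (b : ℕ) (e : Fin I.1 ⊕ Fin b ≃ Fin n) (α : GL (Fin b) F → ℂ),
      IsIrrCharacter _ α ∧ classInner χ (prod e I.2.1 α) ≠ 0 := by
  induction hS with
  | nil => intro _ I hI; simp at hI
  | step J e hα _ h ih =>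
    intro hχ I hI
    rcases Multiset.mem_cons.mp hI with rfl | hI
    · exact ⟨_, e, _, hα, h⟩
    · obtain ⟨c, f, γ, hγ, h'⟩ := ih hα I hI
      exact first_trans e f hχ J.2.2.2.1 hα h I.2.2.2.1 hγ h'

/-- Generic irreducible characters. -/
def Gen (F : Type*) [Field F] [Fintype F] [DecidableEq F] (n : ℕ) :=
  {χ : IrrCharacter (GL (Fin n) F) // classInner (χ : GL (Fin n) F → ℂ) (Γ F n) ≠ 0}

theorem gen_inj : ∀ (n : ℕ) (χ χ' : GL (Fin n) F → ℂ) (S : Multiset (Item F)), IsIrrCharacter _ χ →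
    IsIrrCharacter _ χ' → classInner χ (Γ F n) ≠ 0 → classInner χ' (Γ F n) ≠ 0 → Supp χ S → Supp χ' S →
    χ = χ' := by
  intro n
  induction n using Nat.strong_induction_on with
  | _ n IH =>
    intro χ χ' S hχ hχ' hg hg' hS hS'
    rcases Nat.eq_zero_or_pos n with rfl | hn
    · have key : ∀ θ : GL (Fin 0) F → ℂ, IsIrrCharacter _ θ → classInner θ (Γ F 0) ≠ 0 → ∀ g, θ g = 1 := by
        intro θ hθ h0 g
        have h1 := (inner_Γ_irr hθ).resolve_left h0
        rw [inner_Γ (isClassFunction_irr hθ), Fintype.sum_subsingleton _ (1 : Uni F 0), ψU_one,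
          Nat.card_eq_one_iff_unique.mpr ⟨inferInstance, inferInstance⟩] at h1
        rw [Subsingleton.elim g ((1 : Uni F 0) : GL (Fin 0) F)]
        simpa using h1
      exact funext fun g => by rw [key χ hχ hg, key χ' hχ' hg']
    obtain ⟨I, b, e, α, T, hα, hT, h, rfl, hb⟩ := hS.cases' hn
    obtain ⟨b', e', β, hβ, h'⟩ := supp_mem_first hS' hχ' I (Multiset.mem_cons_self _ _)
    have hbb : b' = b := by
      have h1 : I.1 + b = n := by simpa using Fintype.card_congr e
      have h2 : I.1 + b' = n := by simpa using Fintype.card_congr e'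
      omega
    subst hbb
    have hgα := (gen_factor e (isCharacter_of_irr I.2.2.2.1) (isCharacter_of_irr hα) hχ h hg).2
    have hgβ := (gen_factor e' (isCharacter_of_irr I.2.2.2.1) (isCharacter_of_irr hβ) hχ' h' hg').2
    obtain ⟨R, hR⟩ := supp_exists b' β hβ
    have hR' := supp_unique n χ' hχ' hg' _ _ hS' (.step I e' hβ hR h')
    rw [Multiset.cons_inj_right] at hR'
    subst hR'
    obtain rfl := IH b' hb α β T hα hβ hgα hgβ hT hR
    rw [prod_indep e e'] at h'
    exact gen_unique e I.2.2.2.1 hα hχ hχ' h h' hg hg'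

theorem gen_surj : ∀ S : Multiset (Item F), ∀ n : ℕ, tot S = n →
    ∃ χ : GL (Fin n) F → ℂ, IsIrrCharacter _ χ ∧ classInner χ (Γ F n) ≠ 0 ∧ Supp χ S := by
  intro S
  induction S using Multiset.induction with
  | empty =>
    intro n hn
    obtain rfl : n = 0 := by simpa [tot] using hn.symm
    refine ⟨fun _ => 1, isIrrCharacter_one, ?_, .nil⟩
    rw [inner_Γ isClassFunction_one, Fintype.sum_subsingleton _ (1 : Uni F 0), ψU_one]
    simp [Nat.card_pos.ne']
  | cons I S ih =>
    intro n hn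
    simp only [tot, Multiset.map_cons, Multiset.sum_cons] at hn
    obtain ⟨α, hα, hgα, hS⟩ := ih (tot S) rfl
    let e := e0 (show I.1 + tot S = n from hn)
    have hp := isCharacter_prod e (isCharacter_of_irr I.2.2.2.1) (isCharacter_of_irr hα)
    have hne : classInner (prod e I.2.1 α) (Γ F n) ≠ 0 := by
      rw [inner_prod_Γ e (isClassFunction_irr I.2.2.2.1) (isClassFunction_irr hα)]
      exact mul_ne_zero I.generic hgα
    rw [classInner_eq_sum_irr (isClassFunction_char hp)] at hne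
    obtain ⟨χ, -, hχ⟩ := Finset.exists_ne_zero_of_sum_ne_zero hne
    refine ⟨χ.1, χ.2, right_ne_zero_of_mul hχ, .step I e hα hS ?_⟩
    rw [← classInner_comm]
    exact fun h0 => left_ne_zero_of_mul hχ (by simpa using congrArg conj h0)

/-- Generic characters correspond to supports. -/
theorem card_Gen_eq_multiset (n : ℕ) :
    Nat.card (Gen F n) = Nat.card {S : Multiset (Item F) // tot S = n} := by
  choose S hS using fun χ : Gen F n => supp_exists n χ.1.1 χ.1.2
  refine Nat.card_eq_of_bijective (fun χ => (⟨S χ, (hS χ).tot_eq⟩ : {S : Multiset (Item F) // tot S = n}))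
    ⟨fun χ χ' h => ?_, fun T => ?_⟩
  · have h' : S χ = S χ' := congrArg Subtype.val h
    exact Subtype.ext (Subtype.ext (gen_inj n _ _ (S χ) χ.1.2 χ'.1.2 χ.2 χ'.2 (hS χ) (h' ▸ hS χ')))
  · obtain ⟨χ, hχ, hg, hT⟩ := gen_surj T.1 n T.2
    exact ⟨⟨⟨χ, hχ⟩, hg⟩, Subtype.ext (supp_unique n χ hχ hg _ _ (hS ⟨⟨χ, hχ⟩, hg⟩) hT)⟩

/-- The number of generic characters. -/
theorem card_Gen (n : ℕ) : Nat.card (Gen F n) = Nat.card (Supp2 F n) := by
  have h := norm_Γ (F := F) (n := n)
  rw [classInner_eq_sum_irr (isClassFunction_char isCharacter_Γ)] at h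
  have hterm : ∀ χ : IrrCharacter (GL (Fin n) F),
      classInner (Γ F n) (χ : GL (Fin n) F → ℂ) * classInner (χ : GL (Fin n) F → ℂ) (Γ F n) =
        if classInner (χ : GL (Fin n) F → ℂ) (Γ F n) ≠ 0 then 1 else 0 := by
    intro χ
    rw [← classInner_comm (χ : GL (Fin n) F → ℂ)]
    rcases inner_Γ_irr χ.2 with h0 | h0 <;> simp [h0]
  rw [Finset.sum_congr rfl fun χ _ => hterm χ, Finset.sum_boole, ← Fintype.card_subtype,
    ← Nat.card_eq_fintype_card] at h
  exact Nat.cast_injective h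

end

end CfsgLib.GLCusp
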