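/-
Counting cuspidal irreducible characters of GL_n against monic irreducible polynomials.
-/
import Cfsg.Agent.Lib.GLCusp.Support
import Mathlib.FieldTheory.Finite.Extension

set_option autoImplicit false

namespace CfsgLib.GLCusp

open Cfsg CfsgLib.CharTheory Polynomial
open scoped BigOperators Classical

noncomputable section

section Multisets

variable {T : Type*} (w : T → ℕ)

/-- Multisets of a given total weight. -/
abbrev WSet (n : ℕ) := {S : Multiset T // (S.map w).sum = n}

/-- Multisets of a given total weight with small parts. -/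
abbrev WSmall (n : ℕ) := {S : Multiset {t // w t < n} // (S.map fun t => w t.1).sum = n}

theorem eq_singleton_or_small (hw : ∀ t, 0 < w t) {n : ℕ} (S : WSet w n) :
    (∃ t, w t = n ∧ S.1 = {t}) ∨ ∀ t ∈ S.1, w t < n := by
  by_cases h : ∃ t ∈ S.1, w t = n
  · obtain ⟨t, ht, hn⟩ := h
    obtain ⟨R, hR⟩ := Multiset.exists_cons_of_mem ht
    refine .inl ⟨t, hn, ?_⟩
    rw [hR]
    have h' := S.2
    rw [hR, Multiset.map_cons, Multiset.sum_cons, hn] at h'
    have h0 : (R.map w).sum = 0 := by omega
    rcases R.empty_or_exists_mem with rfl | ⟨r, hr⟩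
    · rfl
    · have := Multiset.single_le_sum (fun _ _ => Nat.zero_le _) _ (Multiset.mem_map_of_mem w hr)
      have := hw r
      omega
  · push Not at h
    refine .inr fun t ht => lt_of_le_of_ne ?_ (h t ht)
    rw [← S.2]
    exact Multiset.single_le_sum (fun _ _ => Nat.zero_le _) _ (Multiset.mem_map_of_mem w ht)

/-- The splitting of multisets of weight `n`. -/
theorem nonempty_split (hw : ∀ t, 0 < w t) (n : ℕ) :
    Nonempty ({t // w t = n} ⊕ WSmall w n ≃ WSet w n) := by
  let f : {t // w t = n} ⊕ WSmall w n → WSet w n := Sum.elim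
    (fun t => ⟨{t.1}, by simp [t.2]⟩)
    (fun S => ⟨S.1.map (·.1), by rw [Multiset.map_map]; exact S.2⟩)
  refine ⟨Equiv.ofBijective f ⟨?_, fun S => ?_⟩⟩
  · rintro (t | S) (t' | S') h <;> simp only [f, Sum.elim_inl, Sum.elim_inr, Subtype.mk.injEq] at h
    · exact congrArg _ (Subtype.ext (Multiset.singleton_inj.mp h))
    · exfalso
      have : t.1 ∈ S'.1.map (·.1) := h ▸ Multiset.mem_singleton_self _
      obtain ⟨x, -, hx⟩ := Multiset.mem_map.mp this
      have := x.2
      rw [hx, t.2] at this
      exact lt_irrefl _ this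
    · exfalso
      have : t'.1 ∈ S.1.map (·.1) := h ▸ Multiset.mem_singleton_self _
      obtain ⟨x, -, hx⟩ := Multiset.mem_map.mp this
      have := x.2
      rw [hx, t'.2] at this
      exact lt_irrefl _ this
    · exact congrArg _ (Subtype.ext (Multiset.map_injective Subtype.val_injective h))
  · rcases eq_singleton_or_small w hw S with ⟨t, ht, hS⟩ | hS
    · exact ⟨.inl ⟨t, ht⟩, Subtype.ext hS.symm⟩
    · refine ⟨.inr ⟨S.1.attach.map fun x => ⟨x.1, hS x.1 x.2⟩, ?_⟩, Subtype.ext ?_⟩
      · rw [Multiset.map_map]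
        exact (congrArg Multiset.sum (Multiset.attach_map_val' S.1 w)).trans S.2
      · simp only [f, Sum.elim_inr, Multiset.map_map]
        exact Multiset.attach_map_val S.1

variable {T' : Type*} (w' : T' → ℕ)

theorem card_weight_eq (hw : ∀ t, 0 < w t) (hw' : ∀ t, 0 < w' t) (hf : ∀ n, Finite (WSet w n))
    (hf' : ∀ n, Finite (WSet w' n)) (h : ∀ n, Nat.card (WSet w n) = Nat.card (WSet w' n)) :
    ∀ n, Nat.card {t // w t = n} = Nat.card {t // w' t = n} := by
  intro n
  induction n using Nat.strong_induction_on with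
  | _ n IH =>
    obtain ⟨E⟩ := nonempty_split w hw n
    obtain ⟨E'⟩ := nonempty_split w' hw' n
    haveI := hf n
    haveI := hf' n
    haveI : Finite ({t // w t = n} ⊕ WSmall w n) := Finite.of_equiv _ E.symm
    haveI : Finite ({t // w' t = n} ⊕ WSmall w' n) := Finite.of_equiv _ E'.symm
    haveI : Finite {t // w t = n} := Finite.sum_left (WSmall w n)
    haveI : Finite {t // w' t = n} := Finite.sum_left (WSmall w' n)
    haveI : Finite (WSmall w n) := Finite.sum_right {t // w t = n}
    haveI : Finite (WSmall w' n) := Finite.sum_right {t // w' t = n}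
    have hc := h n
    rw [← Nat.card_congr E, ← Nat.card_congr E', Nat.card_sum, Nat.card_sum] at hc
    -- the small parts correspond
    have hfin : ∀ d, Finite {t // w t = d} := fun d => by
      haveI := hf d
      obtain ⟨Ed⟩ := nonempty_split w hw d
      haveI := Finite.of_equiv _ Ed.symm
      exact Finite.sum_left (WSmall w d)
    have hfin' : ∀ d, Finite {t // w' t = d} := fun d => by
      haveI := hf' d
      obtain ⟨Ed⟩ := nonempty_split w' hw' d
      haveI := Finite.of_equiv _ Ed.symm
      exact Finite.sum_left (WSmall w' d)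
    have e : ∀ d : Fin n, {t // w t = d.val} ≃ {t // w' t = d.val} := fun d => by
      haveI := hfin d.val
      haveI := hfin' d.val
      exact (Finite.card_eq.mp (IH d.val d.2)).some
    let g : {t // w t < n} ≃ {t // w' t < n} :=
      (Equiv.sigmaFiberEquiv fun t : {t // w t < n} => (⟨w t.1, t.2⟩ : Fin n)).symm.trans
        ((Equiv.sigmaCongrRight fun d : Fin n =>
          (({ toFun := fun x => ⟨x.1.1, congrArg Fin.val x.2⟩
              invFun := fun t => ⟨⟨t.1, t.2.symm ▸ d.2⟩, Fin.ext t.2⟩
              left_inv := fun x => rfl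
              right_inv := fun t => rfl } :
              {x : {t // w t < n} // (⟨w x.1, x.2⟩ : Fin n) = d} ≃ {t // w t = d.val}).trans (e d)).trans
          ({ toFun := fun t => ⟨⟨t.1, t.2.symm ▸ d.2⟩, Fin.ext t.2⟩
             invFun := fun x => ⟨x.1.1, congrArg Fin.val x.2⟩
             left_inv := fun t => rfl
             right_inv := fun x => rfl } :
              {t // w' t = d.val} ≃ {x : {t // w' t < n} // (⟨w' x.1, x.2⟩ : Fin n) = d})).trans
        (Equiv.sigmaFiberEquiv fun t : {t // w' t < n} => (⟨w' t.1, t.2⟩ : Fin n)))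
    have hg : ∀ t, w' (g t).1 = w t.1 := fun t => by
      simp only [g, Equiv.trans_apply, Equiv.sigmaCongrRight_apply, Equiv.sigmaFiberEquiv_symm_apply_fst,
        Equiv.sigmaFiberEquiv]
      exact (e ⟨w t.1, t.2⟩ _).2
    have hsmall : Nat.card (WSmall w n) = Nat.card (WSmall w' n) := by
      refine Nat.card_congr
        { toFun := fun S => ⟨S.1.map g, ?_⟩
          invFun := fun S => ⟨S.1.map g.symm, ?_⟩
          left_inv := fun S => Subtype.ext (by simp [Multiset.map_map])
          right_inv := fun S => Subtype.ext (by simp [Multiset.map_map]) }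
      · rw [Multiset.map_map]
        simpa only [Function.comp_def, hg] using S.2
      · rw [Multiset.map_map]
        refine Eq.trans ?_ S.2
        congr 1
        refine Multiset.map_congr rfl fun x _ => ?_
        simp only [Function.comp_apply]
        rw [← hg, Equiv.apply_symm_apply]
    omega

end Multisets

variable {F : Type*} [Field F] [Fintype F] [DecidableEq F]

/-- Monic irreducible polynomials other than `X`. -/
abbrev MI (F : Type*) [Field F] := {f : F[X] // f.Monic ∧ Irreducible f ∧ f ≠ X}

theorem MI.coeff_ne (f : MI F) : f.1.coeff 0 ≠ 0 := fun h =>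
  f.2.2.2 (Polynomial.eq_of_monic_of_associated f.2.1 monic_X
    (Irreducible.associated_of_dvd irreducible_X f.2.2.1 (X_dvd_iff.mpr h)).symm)

theorem card_poly (n : ℕ) :
    Nat.card {p : F[X] // p.Monic ∧ p.natDegree = n + 1 ∧ p.coeff 0 ≠ 0} =
      Fintype.card F ^ (n + 1) - Fintype.card F ^ n := by
  let E : {p : F[X] // p.Monic ∧ p.natDegree = n + 1} ≃ (Fin (n + 1) → F) :=
    (monicEquivDegreeLT (n + 1)).trans (degreeLTEquiv F (n + 1)).toEquiv
  have hE : ∀ p, E p 0 = p.1.coeff 0 := fun p => by
    show (p.1.eraseLead).coeff ((0 : Fin (n + 1)) : ℕ) = _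
    rw [Fin.val_zero, eraseLead_coeff_of_ne _ (by rw [p.2.2]; omega)]
  have e1 : {p : F[X] // p.Monic ∧ p.natDegree = n + 1 ∧ p.coeff 0 ≠ 0} ≃
      {q : {p : F[X] // p.Monic ∧ p.natDegree = n + 1} // q.1.coeff 0 ≠ 0} :=
    { toFun := fun p => ⟨⟨p.1, p.2.1, p.2.2.1⟩, p.2.2.2⟩
      invFun := fun q => ⟨q.1.1, q.1.2.1, q.1.2.2, q.2⟩
      left_inv := fun p => rfl
      right_inv := fun q => rfl }
  have e2 : {c : Fin (n + 1) → F // c 0 ≠ 0} ≃ {a : F // a ≠ 0} × (Fin n → F) :=
    { toFun := fun c => (⟨c.1 0, c.2⟩, Fin.tail c.1)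
      invFun := fun z => ⟨Fin.cons z.1.1 z.2, by simpa using z.1.2⟩
      left_inv := fun c => Subtype.ext (Fin.cons_self_tail c.1)
      right_inv := fun z => Prod.ext (Subtype.ext (by simp)) (by simp) }
  rw [Nat.card_congr (e1.trans ((E.subtypeEquiv fun p => by rw [hE]).trans e2)), Nat.card_prod,
    Nat.card_congr (unitsEquivNeZero (G₀ := F)).symm, Nat.card_eq_fintype_card, Fintype.card_units,
    Nat.card_fun, Nat.card_fin, Nat.card_eq_fintype_card, Nat.sub_mul, one_mul, ← pow_succ']

theorem card_MI_sets (n : ℕ) :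
    Nat.card (WSet (fun f : MI F => f.1.natDegree) (n + 1)) = Fintype.card F ^ (n + 1) - Fintype.card F ^ n := by
  rw [← card_poly (F := F) n]
  have hm : ∀ S : Multiset (MI F), ((S.map Subtype.val).prod).Monic := fun S =>
    monic_multiset_prod_of_monic _ _ fun f _ => f.2.1
  have hd : ∀ S : Multiset (MI F), ((S.map Subtype.val).prod).natDegree = (S.map fun f => f.1.natDegree).sum := fun S => by
    rw [natDegree_multiset_prod_of_monic _ (fun p hp => by
      obtain ⟨f, -, rfl⟩ := Multiset.mem_map.mp hp
      exact f.2.1), Multiset.map_map]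
    rfl
  have h0 : ∀ S : Multiset (MI F), ((S.map Subtype.val).prod).coeff 0 ≠ 0 := fun S => by
    rw [coeff_zero_multiset_prod, Multiset.map_map]
    refine Multiset.prod_ne_zero fun h => ?_
    obtain ⟨f, -, hf⟩ := Multiset.mem_map.mp h
    exact MI.coeff_ne f hf
  refine Nat.card_eq_of_bijective
    (fun S => ⟨(S.1.map Subtype.val).prod, hm S.1, (hd S.1).trans S.2, h0 S.1⟩) ⟨fun S S' h => ?_, fun p => ?_⟩
  · have h' := congrArg (fun q : {p : F[X] // p.Monic ∧ p.natDegree = n + 1 ∧ p.coeff 0 ≠ 0} =>
      UniqueFactorizationMonoid.normalizedFactors q.1) h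
    have hn : ∀ S : Multiset (MI F), UniqueFactorizationMonoid.normalizedFactors (S.map Subtype.val).prod =
        S.map Subtype.val := fun S => by
      rw [UniqueFactorizationMonoid.normalizedFactors_prod_eq _ (fun a ha => by
        obtain ⟨f, -, rfl⟩ := Multiset.mem_map.mp ha
        exact f.2.2.1), Multiset.map_map]
      exact Multiset.map_congr rfl fun f _ => f.2.1.normalize_eq_self
    simp only [hn] at h'
    exact Subtype.ext (Multiset.map_injective Subtype.val_injective h')
  · have hp : p.1 ≠ 0 := p.2.1.ne_zero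
    let S : Multiset (MI F) := (UniqueFactorizationMonoid.normalizedFactors p.1).attach.map fun x =>
      ⟨x.1, by
        have h1 := UniqueFactorizationMonoid.irreducible_of_normalized_factor x.1 x.2
        have h2 := UniqueFactorizationMonoid.normalize_normalized_factor x.1 x.2
        refine ⟨h2 ▸ monic_normalize h1.ne_zero, h1, fun hX => p.2.2.2 ?_⟩
        have h3 := UniqueFactorizationMonoid.dvd_of_mem_normalizedFactors x.2
        rw [hX] at h3
        exact X_dvd_iff.mp h3⟩
    have hS : (S.map Subtype.val).prod = p.1 := by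
      simp only [S, Multiset.map_map, Function.comp_def, Multiset.attach_map_val]
      rw [UniqueFactorizationMonoid.prod_normalizedFactors_eq hp, p.2.1.normalize_eq_self]
    refine ⟨⟨S, ?_⟩, Subtype.ext hS⟩
    rw [← hd, hS, p.2.2.1]

theorem card_MI_ge (n : ℕ) (hn : 1 ≤ n) [Finite {f : MI F // f.1.natDegree = n}] :
    Nat.totient (Fintype.card F ^ n - 1) / n ≤ Nat.card {f : MI F // f.1.natDegree = n} := by
  set p := ringChar F
  haveI : CharP F p := ringChar.charP F
  haveI : Fact p.Prime := ⟨CharP.char_is_prime F p⟩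
  haveI : NeZero n := ⟨by omega⟩
  let K := FiniteField.Extension F p n
  haveI : FiniteDimensional F K := Module.finite_of_finrank_pos (by rw [FiniteField.finrank_extension]; omega)
  haveI : Fintype K := Fintype.ofFinite K
  have hcard : Fintype.card Kˣ = Fintype.card F ^ n - 1 := by
    rw [Fintype.card_units, ← Nat.card_eq_fintype_card, FiniteField.natCard_extension, Nat.card_eq_fintype_card]
  let G := Finset.univ.filter fun a : Kˣ => orderOf a = Fintype.card F ^ n - 1
  have hG : G.card = Nat.totient (Fintype.card F ^ n - 1) := by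
    rw [← IsCyclic.card_orderOf_eq_totient (α := Kˣ) (d := Fintype.card F ^ n - 1) (by rw [hcard])]
  have hdeg : ∀ a ∈ G, (minpoly F (a : K)).natDegree = n := by
    intro a ha
    have ho : orderOf a = Nat.card Kˣ := by
      rw [Nat.card_eq_fintype_card, hcard]; exact (Finset.mem_filter.mp ha).2
    have htop : IntermediateField.adjoin F {(a : K)} = ⊤ := by
      refine eq_top_iff.mpr fun z _ => ?_
      rcases eq_or_ne z 0 with rfl | hz
      · exact zero_mem _
      · have hmem : Units.mk0 z hz ∈ Submonoid.powers a := by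
          rw [mem_powers_iff_mem_zpowers, Subgroup.eq_top_of_card_eq (Subgroup.zpowers a) (by
            rw [Nat.card_zpowers, ho])]
          trivial
        obtain ⟨k, hk⟩ := hmem
        have hk' : (a : K) ^ k = z := by
          rw [← Units.val_pow_eq_pow_val]; exact congrArg Units.val hk
        rw [← hk']
        exact pow_mem (IntermediateField.mem_adjoin_simple_self F (a : K)) k
    rw [← IntermediateField.adjoin.finrank (Algebra.IsIntegral.isIntegral (a : K)), htop,
      IntermediateField.finrank_top', FiniteField.finrank_extension]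
  let f : G → {f : MI F // f.1.natDegree = n} := fun a =>
    ⟨⟨minpoly F ((a : Kˣ) : K), minpoly.monic (Algebra.IsIntegral.isIntegral _),
      minpoly.irreducible (Algebra.IsIntegral.isIntegral _), fun hX => by
        have h := minpoly.aeval F ((a : Kˣ) : K)
        rw [hX, aeval_X] at h
        exact (a : Kˣ).ne_zero h⟩, hdeg a.1 a.2⟩
  haveI := Fintype.ofFinite {f : MI F // f.1.natDegree = n}
  have hfib : ∀ b ∈ Finset.univ.image f, (Finset.univ.filter fun a => f a = b).card ≤ n := by
    intro b _
    have hb : (b.1.1.map (algebraMap F K)) ≠ 0 := (b.1.2.1.map _).ne_zero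
    calc (Finset.univ.filter fun a => f a = b).card
        ≤ ((b.1.1.map (algebraMap F K)).roots.toFinset).card := by
          refine Finset.card_le_card_of_injOn (fun a => ((a : Kˣ) : K)) ?_ ?_
          · intro a ha
            rw [Finset.mem_coe, Finset.mem_filter] at ha
            rw [Finset.mem_coe, Multiset.mem_toFinset, mem_roots hb, IsRoot.def, eval_map_algebraMap, ← ha.2]
            exact minpoly.aeval F _
          · intro a _ a' _ h
            exact Subtype.ext (Units.ext h)
      _ ≤ n := (Multiset.toFinset_card_le _).trans ((card_roots' _).trans (by rw [natDegree_map, b.2]))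
  refine Nat.div_le_of_le_mul ?_
  rw [← hG, ← Fintype.card_coe, ← Finset.card_univ, Nat.card_eq_fintype_card]
  exact (Finset.card_le_mul_card_image Finset.univ n hfib).trans
    (Nat.mul_le_mul_left n (Finset.card_le_univ _))

theorem card_item_sets (n : ℕ) :
    Nat.card (WSet (fun I : Item F => I.1) (n + 1)) = Fintype.card F ^ (n + 1) - Fintype.card F ^ n :=
  ((card_Gen_eq_multiset (F := F) (n + 1)).symm.trans (card_Gen (n + 1))).trans (card_supp2 n)

theorem wset_zero {T : Type*} (w : T → ℕ) (hw : ∀ t, 0 < w t) : Nonempty (WSet w 0) ∧ Subsingleton (WSet w 0) := by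
  refine ⟨⟨⟨0, rfl⟩⟩, ⟨fun S S' => ?_⟩⟩
  have key : ∀ S : WSet w 0, S.1 = 0 := fun S => by
    by_contra hne
    obtain ⟨t, ht⟩ := Multiset.exists_mem_of_ne_zero hne
    have := Multiset.single_le_sum (fun _ _ => Nat.zero_le _) _ (Multiset.mem_map_of_mem w ht)
    have := hw t
    have := S.2
    omega
  exact Subtype.ext ((key S).trans (key S').symm)

/-- There are at least `φ(qⁿ - 1)/n` cuspidal irreducible characters of the standard degree. -/
theorem cuspidal_count (n : ℕ) (hn : 1 ≤ n) :
    Nat.totient (Fintype.card F ^ n - 1) / n ≤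
      Nat.card {I : Item F // I.1 = n} := by
  have hpos : ∀ m, 0 < Fintype.card F ^ (m + 1) - Fintype.card F ^ m := fun m =>
    Nat.sub_pos_of_lt (Nat.pow_lt_pow_right Fintype.one_lt_card (Nat.lt_succ_self m))
  have hw : ∀ I : Item F, 0 < I.1 := fun I => I.2.2.1
  have hw' : ∀ f : MI F, 0 < f.1.natDegree := fun f => Irreducible.natDegree_pos f.2.2.1
  have hf : ∀ m, Finite (WSet (fun I : Item F => I.1) m) := by
    rintro (_ | m)
    · haveI := (wset_zero _ hw).2; infer_instance
    · exact Nat.finite_of_card_ne_zero (by rw [card_item_sets]; exact (hpos m).ne')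
  have hf' : ∀ m, Finite (WSet (fun f : MI F => f.1.natDegree) m) := by
    rintro (_ | m)
    · haveI := (wset_zero _ hw').2; infer_instance
    · exact Nat.finite_of_card_ne_zero (by rw [card_MI_sets]; exact (hpos m).ne')
  have heq : ∀ m, Nat.card (WSet (fun I : Item F => I.1) m) = Nat.card (WSet (fun f : MI F => f.1.natDegree) m) := by
    rintro (_ | m)
    · obtain ⟨⟨a⟩, h⟩ := wset_zero _ hw
      obtain ⟨⟨b⟩, h'⟩ := wset_zero _ hw'
      exact (Nat.card_eq_one_iff_unique.mpr ⟨h, ⟨a⟩⟩).trans (Nat.card_eq_one_iff_unique.mpr ⟨h', ⟨b⟩⟩).symm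
    · rw [card_item_sets, card_MI_sets]
  rw [card_weight_eq _ _ hw hw' hf hf' heq n]
  haveI : Finite {f : MI F // f.1.natDegree = n} := by
    haveI := hf' n
    obtain ⟨E⟩ := nonempty_split (fun f : MI F => f.1.natDegree) hw' n
    haveI := Finite.of_equiv _ E.symm
    exact Finite.sum_left (WSmall (fun f : MI F => f.1.natDegree) n)
  exact card_MI_ge n hn

end

end CfsgLib.GLCusp
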